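import Cfsg.Agent.H821.J4MaxC
import Cfsg.Agent.H856.BridgeIso
import Cfsg.Prelude.Def_JankoFourType

/-!
# Assembly of the 2-local part of S5582 (helper821)
-/

set_option autoImplicit false
set_option linter.unusedSectionVars false

namespace Cfsg.Agent.H821.J4MaxD

open Subgroup Cfsg Cfsg.Agent.OrdDiv Cfsg.Agent.H821
open Cfsg.Agent.H821.J4Orders (NN)
open Cfsg.Agent.H821.S5L3 (A B)
open scoped commutatorElement

universe u

variable {G : Type u} [Group G] [Finite G]

/-- the order -/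
theorem card_G [IsSimpleGroup G] {z : G} (hJ : IsOfJankoFourTypeAt z) : Nat.card G = NN := by
  obtain ⟨P, h⟩ := hJ
  obtain ⟨Q, N, M, H, -, -⟩ := Cfsg.Agent.H856.ToHyp.exists_hyp h
  obtain ⟨C, -, -, -⟩ := Cfsg.Agent.H856.Bridge.exists_compl_of_hyp H
  obtain ⟨f, hf, -⟩ := Cfsg.Agent.H856.BridgeIso.exists_iso_of_compl C
  rw [← Nat.card_congr (Equiv.ofBijective f hf)]
  exact Cfsg.Agent.S1703.result.2

theorem map_conj_centralizer (g : G) (P : Subgroup G) :
    Nat.card (centralizer ((P.map (MulAut.conj g).toMonoidHom : Subgroup G) : Set G)) =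
      Nat.card (centralizer (P : Set G)) := by
  have h : centralizer ((P.map (MulAut.conj g).toMonoidHom : Subgroup G) : Set G) =
      (centralizer (P : Set G)).map (MulAut.conj g).toMonoidHom := by
    ext x
    rw [mem_centralizer_iff]
    constructor
    · intro hx
      refine ⟨g⁻¹ * x * g, ?_, by show g * (g⁻¹ * x * g) * g⁻¹ = x; group⟩
      rw [SetLike.mem_coe, mem_centralizer_iff]
      intro y hy
      have h0 := hx (g * y * g⁻¹) ⟨y, hy, rfl⟩
      have h1 : y * (g⁻¹ * x * g) = g⁻¹ * ((g * y * g⁻¹) * x) * g := by group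
      have h2 : g⁻¹ * x * g * y = g⁻¹ * (x * (g * y * g⁻¹)) * g := by group
      rw [h1, h2, h0]
    · rintro ⟨y, hy, rfl⟩ _ ⟨w, hw, rfl⟩
      have hy' := mem_centralizer_iff.1 hy w hw
      show g * w * g⁻¹ * (g * y * g⁻¹) = g * y * g⁻¹ * (g * w * g⁻¹)
      have h1 : g * w * g⁻¹ * (g * y * g⁻¹) = g * (w * y) * g⁻¹ := by group
      have h2 : g * y * g⁻¹ * (g * w * g⁻¹) = g * (y * w) * g⁻¹ := by group
      rw [h1, h2, hy']
  rw [h]
  exact (Nat.card_congr ((centralizer (P : Set G)).equivMapOfInjective _ (MulAut.conj g).injective).toEquiv).symm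

/-- if `p² ∤ |G|` and `p ∣ |C|`, then all Sylow `p`-subgroups have order `p` and are conjugate to a subgroup of `C` -/
theorem exists_sylow_conj {p : ℕ} [hp : Fact p.Prime] (C : Subgroup G) (hC : p ∣ Nat.card C) (hG : ¬ p ^ 2 ∣ Nat.card G)
    (P : Sylow p G) : Nat.card (P : Subgroup G) = p ∧ ∃ (Q : Subgroup G) (g : G), Q ≤ C ∧ Nat.card Q = p ∧
      (P : Subgroup G) = Q.map (MulAut.conj g).toMonoidHom := by
  obtain ⟨y, hy⟩ := exists_prime_orderOf_dvd_card' (G := C) p hC
  have hQc : Nat.card (zpowers (y : G)) = p := by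
    rw [Nat.card_zpowers, Subgroup.orderOf_coe]
    exact hy
  have hQp : IsPGroup p (zpowers (y : G)) := IsPGroup.of_card (n := 1) (by rw [hQc, pow_one])
  obtain ⟨R, hR⟩ := hQp.exists_le_sylow
  obtain ⟨g, hg⟩ := MulAction.exists_smul_eq G R P
  have hRc : Nat.card (R : Subgroup G) = p := by
    obtain ⟨k, hk⟩ := IsPGroup.iff_card.1 R.2
    have hk2 : k < 2 := by
      by_contra h
      exact hG ((pow_dvd_pow p (by omega)).trans (hk ▸ card_subgroup_dvd_card (R : Subgroup G)))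
    have hk1 : p ∣ p ^ k := by
      have := card_dvd_of_le hR
      rwa [hQc, hk] at this
    have hk0 : k ≠ 0 := by
      rintro rfl
      rw [pow_zero] at hk1
      exact hp.out.one_lt.ne' (Nat.dvd_one.1 hk1)
    have : k = 1 := by omega
    rw [hk, this, pow_one]
  have hRQ : (R : Subgroup G) = zpowers (y : G) := (eq_of_le_of_card_ge hR (by rw [hQc]; exact hRc.le)).symm
  have hPm : (P : Subgroup G) = (zpowers (y : G)).map (MulAut.conj g).toMonoidHom := by
    rw [← hg, Sylow.coe_subgroup_smul, hRQ]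
    rfl
  refine ⟨?_, zpowers (y : G), g, ?_, hQc, hPm⟩
  · rw [hPm, ← Nat.card_congr ((zpowers (y : G)).equivMapOfInjective _ (MulAut.conj g).injective).toEquiv]
    exact hQc
  · rw [zpowers_le]
    exact y.2

/-- the order of the centraliser from the statement S5572 -/
theorem card_of_direct {Q J C : Subgroup G} (h : IsInternalDirectProduct Q J C) (hQ : Nat.card Q = 5)
    (hJ : ∃ (E : Subgroup ↥J) (_ : E.Normal), Cfsg.IsElementaryAbelian 2 E ∧ Nat.card ↥E = 8 ∧
        Nonempty (↥J ⧸ E ≃* Matrix.SpecialLinearGroup (Fin 3) (ZMod 2)) ∧ ∀ K : Subgroup ↥J, ¬ E.IsComplement' K) :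
    Nat.card C = 6720 := by
  obtain ⟨E, _, -, hE, ⟨e⟩, -⟩ := hJ
  obtain ⟨-, -, hc, hi, hs⟩ := h
  have hJc : Nat.card J = 1344 := by
    rw [← E.card_mul_index, hE]
    have h1 : E.index = 168 := by
      rw [Subgroup.index]
      exact (Nat.card_congr e.toEquiv).trans SLTwo.card_three
    rw [h1]
  have h2 : J ≤ normalizer (Q : Set G) := by
    refine RankAct.le_normalizer_of_forall fun f hf w hw => ?_
    rw [← hc w hw f hf, mul_inv_cancel_right]
    exact hw
  have h3 := Cfsg.Agent.GH.C2GrowG.card_sup h2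
  rw [inf_comm, hi, card_bot, mul_one, sup_comm, hs, hJc, hQ] at h3
  exact h3

/-- **the special group `2^{3+12}`** -/
theorem part_L [IsSimpleGroup G] (T : OrderTable.{u})
    (hS : ∀ (X : Type u) [Group X] [Finite X] [IsSimpleGroup X], IsKnownSimple' X) {z : G}
    (hJ : IsOfJankoFourTypeAt z)
    (h72 : ∀ Q : Subgroup G, Nat.card Q = 5 → Q ≤ centralizer ({z} : Set G) →
      ∃ J : Subgroup G, Cfsg.IsInternalDirectProduct Q J (centralizer (Q : Set G)) ∧
      ∃ (E : Subgroup ↥J) (_ : E.Normal), Cfsg.IsElementaryAbelian 2 E ∧ Nat.card ↥E = 8 ∧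
        Nonempty (↥J ⧸ E ≃* Matrix.SpecialLinearGroup (Fin 3) (ZMod 2)) ∧ ∀ K : Subgroup ↥J, ¬ E.IsComplement' K)
    (h73 : ∀ S : Subgroup G, Nat.card S = 7 → S ≤ centralizer ({z} : Set G) →
      Nat.card (normalizer (S : Set G)) = 3 * Nat.card (centralizer (S : Set G)) ∧
      Nat.card (normalizer (S : Set G)) = 2 ^ 3 * 3 ^ 2 * 5 * 7)
    {L : Subgroup G} (hsp : IsSpecial 2 L) (hc : Nat.card L = 2 ^ 15) (hz : Nat.card (center L) = 8)
    (he : Nonempty (normalizer (L : Set G) ⧸ L.subgroupOf (normalizer (L : Set G)) ≃*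
      Equiv.Perm (Fin 5) × Matrix.SpecialLinearGroup (Fin 3) (ZMod 2)))
    (h5 : ∃ Q : Sylow 5 G, normalizer ((Q : Subgroup G) : Set G) ≤ normalizer (L : Set G))
    (h7 : ∃ S : Sylow 7 G, normalizer ((S : Subgroup G) : Set G) ≤ normalizer (L : Set G)) :
    IsCoatom (normalizer (L : Set G)) := by
  have hG := card_G hJ
  have F := J4MaxB.facts hJ
  obtain ⟨e⟩ := he
  obtain ⟨P₅, h5⟩ := h5
  obtain ⟨P₇, h7⟩ := h7
  have hF5 : Fact (Nat.Prime 5) := ⟨by norm_num⟩
  have hF7 : Fact (Nat.Prime 7) := ⟨by norm_num⟩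
  obtain ⟨hP5, Q5, g5, hQ5C, hQ5, hg5⟩ := exists_sylow_conj (centralizer ({z} : Set G))
    (by rw [F.card_cent]; norm_num) (by rw [hG]; norm_num) P₅
  obtain ⟨hP7, Q7, g7, hQ7C, hQ7, hg7⟩ := exists_sylow_conj (centralizer ({z} : Set G))
    (by rw [F.card_cent]; norm_num) (by rw [hG]; norm_num) P₇
  have hZ : (center L).map L.subtype = L ⊓ centralizer (L : Set G) := by
    ext x
    constructor
    · rintro ⟨y, hy, rfl⟩
      refine mem_inf.2 ⟨y.2, ?_⟩
      rw [mem_centralizer_iff]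
      intro w hw
      exact congrArg Subtype.val (mem_center_iff.1 hy ⟨w, hw⟩)
    · intro hx
      obtain ⟨h1, h2⟩ := mem_inf.1 hx
      refine ⟨⟨x, h1⟩, ?_, rfl⟩
      rw [SetLike.mem_coe, mem_center_iff]
      intro w
      exact Subtype.ext (mem_centralizer_iff.1 h2 w w.2)
  have S : J4MaxC.Sit L (normalizer (L : Set G)) ((center L).map L.subtype) P₅ P₇
      (e.toMonoidHom.comp (QuotientGroup.mk' (L.subgroupOf (normalizer (L : Set G))))) := by
    refine ⟨rfl, hc, hZ, ?_, ?_, ?_, h5, h7, hP5, hP7, ?_, ?_⟩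
    · rw [← hz]
      exact (Nat.card_congr ((center L).equivMapOfInjective L.subtype L.subtype_injective).toEquiv).symm
    · exact e.surjective.comp (QuotientGroup.mk'_surjective _)
    · intro x
      show e (QuotientGroup.mk' _ x) = 1 ↔ _
      rw [map_eq_one_iff e e.injective]
      exact (QuotientGroup.eq_one_iff x).trans mem_subgroupOf
    · rw [hg5, map_conj_centralizer]
      obtain ⟨J, hJ1, hJ2⟩ := h72 Q5 hQ5 hQ5C
      exact card_of_direct hJ1 hQ5 hJ2
    · rw [hg7, map_conj_centralizer]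
      obtain ⟨h1, h2⟩ := h73 Q7 hQ7 hQ7C
      omega
  refine J4MaxC.case_L T hS hG F S ?_
  rw [← hsp.2.2, map_subtype_commutator]

end Cfsg.Agent.H821.J4MaxD
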