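import Cfsg.Agent.H926.CcMax
import Cfsg.Agent.H926.CcCount
import Cfsg.Agent.H192.SingerFinal

/-!
# The normaliser of a field subalgebra of degree `n ≥ 5` prime is maximal in `SL_n(q)` (helper821)

`maximal_of_known` : the theorem, with the order table and the classification (for the groups `Tq L`) as hypotheses
(`H926.Cc.isMaximalIn_of` and `H192.Singer.sl_final`).
-/

set_option autoImplicit false

namespace Cfsg.Agent.H821.CcSL

open Module Cfsg Cfsg.Geo
open scoped MatrixGroups Matrix
open Cfsg.Agent.OrdDiv (glN OrderTable)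
open Cfsg.Agent.H926.Cc Cfsg.Agent.H192.Singer

universe u

variable {F : Type u} [Field F] [Fintype F]

theorem card_gl (n : ℕ) : Nat.card (GL (Fin n) F) = glN n (Fintype.card F) := by
  have prod_list : ∀ (f : ℕ → ℕ) (m : ℕ), ((List.range m).map f).prod = ∏ i ∈ Finset.range m, f i := by
    intro f m
    induction m with
    | zero => rfl
    | succ m ih => rw [List.range_succ, List.map_append, List.prod_append, ih, Finset.prod_range_succ]; simp
  rw [Matrix.card_GL_field]
  unfold glN
  rw [prod_list, Fin.prod_univ_eq_prod_range (fun i => Fintype.card F ^ n - Fintype.card F ^ i) n]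

theorem card_sl_mul {n : ℕ} (hn : 1 ≤ n) :
    Nat.card (specialLinear (Fin n) F) * (Fintype.card F - 1) = glN n (Fintype.card F) := by
  have : Nonempty (Fin n) := ⟨⟨0, hn⟩⟩
  have h1 := (Matrix.GeneralLinearGroup.det : GL (Fin n) F →* Fˣ).ker.card_eq_card_quotient_mul_card_subgroup
  have h2 : Nat.card (GL (Fin n) F ⧸ (Matrix.GeneralLinearGroup.det : GL (Fin n) F →* Fˣ).ker) = Nat.card Fˣ :=
    Nat.card_congr (QuotientGroup.quotientKerEquivOfSurjective _ Matrix.GeneralLinearGroup.det_surjective).toEquiv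
  rw [h2, Nat.card_units, Nat.card_eq_fintype_card (α := F), card_gl] at h1
  rw [h1, mul_comm]
  rfl

theorem Zs_central {n : ℕ} (L : Subgroup (GL (Fin n) F)) : Zs L ≤ Subgroup.center L := by
  intro z hz
  obtain ⟨c, hc⟩ := mem_Zs.1 hz
  rw [Subgroup.mem_center_iff]
  intro g
  apply Subtype.ext
  apply Units.ext
  show ((g : GL (Fin n) F) : Matrix (Fin n) (Fin n) F) * ((z : GL (Fin n) F) : Matrix (Fin n) (Fin n) F) =
    ((z : GL (Fin n) F) : Matrix (Fin n) (Fin n) F) * ((g : GL (Fin n) F) : Matrix (Fin n) (Fin n) F)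
  rw [hc, Matrix.mul_smul, Matrix.smul_mul, mul_one, one_mul]

theorem coprime_of_slNum {n q c d : ℕ} (h : SLNum n q c d) : d.Coprime n := by
  rw [Nat.coprime_comm, h.np.coprime_iff_not_dvd]
  intro hd
  have h1 := h.two_mul_dvd h.np hd
  have h2 := h.five_le
  have h3 := Nat.le_of_dvd (by omega) h1
  omega

theorem maximal_of_known (TB : OrderTable.{u}) {n : ℕ} (hn : n.Prime) (h5 : 5 ≤ n)
    {K : Subalgebra F (Matrix (Fin n) (Fin n) F)} (hK : IsFieldSubalgebra n K)
    (hKn : ∀ L : Subgroup (GL (Fin n) F), IsSimpleGroup (Tq L) → IsKnownSimple' (Tq L)) :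
    IsMaximalIn (specialLinear (Fin n) F) (subalgebraNormalizer K ⊓ specialLinear (Fin n) F) := by
  have hι : Fintype.card (Fin n) = n := Fintype.card_fin n
  refine isMaximalIn_of (by rw [hι]; exact hn) (by rw [hι]; exact h5) (by rw [hι]; exact hK)
    fun L hN hL h => ?_
  obtain ⟨hsimp, hna, hcL, D, hCC, hcyc, hD, hidx⟩ := h
  rw [hι] at hcL hD hidx
  have hq : Nat.card F = Fintype.card F := Nat.card_eq_fintype_card
  rw [hq] at hcL hD
  have hq2 : 1 < Fintype.card F := Fintype.one_lt_card
  have hfin : Finite (Tq L) := inferInstance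
  have hSL := card_sl_mul (F := F) hn.one_lt.le
  have hnum : SLNum n (Fintype.card F) (Nat.card (Tq L)) (Nat.card D) := by
    refine ⟨hn, h5, FiniteField.isPrimePow_card F, hD, Subgroup.card_subgroup_dvd_card _, ?_⟩
    rw [← hSL]
    obtain ⟨t, ht⟩ := Subgroup.card_dvd_of_le hL
    refine ⟨t, ?_⟩
    rw [ht, hcL]
    ring
  have hnn : ¬ D.Normal := by
    intro hnorm
    have := hsimp
    rcases hsimp.eq_bot_or_eq_top_of_normal _ hnorm with h8 | h8
    · exact hCC.ne_bot h8
    · obtain ⟨x, y, hxy⟩ := hna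
      exact hxy (hCC.comm x (by rw [h8]; exact Subgroup.mem_top _) y (by rw [h8]; exact Subgroup.mem_top _))
  have hle := hCC.card_ge hidx (coprime_of_slNum hnum) hnn
  have hker : (QuotientGroup.mk' (Zs L)).ker = Zs L := QuotientGroup.ker_mk' _
  have hT := sl_final TB (F := F) (q := Fintype.card F) rfl hna hsimp (hKn L hsimp) (QuotientGroup.mk' (Zs L))
    (QuotientGroup.mk'_surjective _) (by rw [hker]; exact Zs_central L) (by
      rw [hker]
      have h1 := Subgroup.card_eq_card_quotient_mul_card_subgroup (Zs L)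
      have h3 : 0 < Nat.card (Tq L) := Nat.card_pos
      have h4 : Nat.card (Zs L) = Nat.gcd n (Fintype.card F - 1) := by
        apply Nat.eq_of_mul_eq_mul_left h3
        rw [← hcL]
        exact h1.symm
      rw [h4]
      exact Nat.gcd_dvd_left _ _) hnum hle
  have h2 : Nat.card L * (Fintype.card F - 1) = Nat.card (specialLinear (Fin n) F) * (Fintype.card F - 1) := by
    rw [hSL, ← hT, hcL]
    ring
  have h3 := Nat.eq_of_mul_eq_mul_right (by omega : 0 < Fintype.card F - 1) h2
  exact (Subgroup.eq_of_le_of_card_ge hL h3.ge).ge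

end Cfsg.Agent.H821.CcSL
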