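import Cfsg.Agent.H465.SpArith
import Cfsg.Agent.NotCT.Orders
import Cfsg.Agent.Mrg.Omega.CoTwoK.Normal
import Cfsg.Agent.H393.Iso.Co2
import Cfsg.Agent.H898.RowCo0

/-!
# A solvably unique element of `Co2` (helper821)

`p = 23`: `23` is self-centralising and the elementary abelian 2-subgroups have order `≤ 2 ^ 10`.
-/

set_option autoImplicit false

namespace Cfsg.Agent.H821.SpCo2

open Cfsg Cfsg.Agent.H465.SU

/-- no element of prime order `≠ 23` commutes with an element of order 23 -/
theorem not_comm {y u : Spor.Co2} (hy : orderOf y = 23) (hu : (orderOf u).Prime) (hu3 : orderOf u ≠ 23)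
    (hle : orderOf u ≤ 23) : y * u ≠ u * y := by
  intro hc
  by_cases h2 : orderOf u = 2
  · exact Cfsg.Agent.H393.Iso.na_co2_model y u hy h2 hc
  · refine Cfsg.Agent.H898.RowCo0.not_comm_23 (g := Cfsg.Agent.Co2Type.Mono.toCo0 u) (h := Cfsg.Agent.Co2Type.Mono.toCo0 y)
      hu ?_ (lt_of_le_of_ne hle hu3) ?_ ?_ ?_
    · have := hu.two_le
      omega
    · exact orderOf_injective _ Cfsg.Agent.Co2Type.Mono.toCo0_injective u
    · rw [orderOf_injective _ Cfsg.Agent.Co2Type.Mono.toCo0_injective y, hy]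
    · show _ * _ = _ * _
      rw [← map_mul, ← map_mul, hc]

theorem co2 {G : Type*} [Group G] [Finite G] (h : Spor.IsoCo2 G) : HasSU1 G := by
  have hcard := Cfsg.Agent.NotCT.Orders.co2 h
  obtain ⟨e⟩ := h
  have hfin : Finite Spor.Co2 := Finite.of_equiv G e.toEquiv
  have : Fact (Nat.Prime 23) := ⟨by norm_num⟩
  have hp : Nat.Prime 23 := by norm_num
  have hnd : ¬ 23 ^ 2 ∣ Nat.card G := by rw [hcard]; norm_num
  obtain ⟨y, hy⟩ := exists_prime_orderOf_dvd_card' (G := G) 23 (by rw [hcard]; norm_num)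
  refine ⟨23, y, hp, by norm_num, hy, hnd, SUel.of_elem hp hnd hy ?_ ?_⟩
  · intro u hu hu23 hc
    refine not_comm (y := e y) (u := e u) ?_ ?_ ?_ ?_ ?_
    · rw [MulEquiv.orderOf_eq, hy]
    · rw [MulEquiv.orderOf_eq]; exact hu
    · rw [MulEquiv.orderOf_eq]; exact hu23
    · rw [MulEquiv.orderOf_eq]
      have h1 : orderOf u ∣ 2 ^ 18 * 3 ^ 6 * 5 ^ 3 * 7 * 11 * 23 := by
        have h2 := orderOf_dvd_natCard u
        rw [hcard] at h2
        norm_num
        exact h2
      rw [hu.dvd_mul, hu.dvd_mul, hu.dvd_mul, hu.dvd_mul, hu.dvd_mul] at h1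
      rcases h1 with ((((h1 | h1) | h1) | h1) | h1) | h1
      · exact (Nat.le_of_dvd (by norm_num) (hu.dvd_of_dvd_pow h1)).trans (by norm_num)
      · exact (Nat.le_of_dvd (by norm_num) (hu.dvd_of_dvd_pow h1)).trans (by norm_num)
      · exact (Nat.le_of_dvd (by norm_num) (hu.dvd_of_dvd_pow h1)).trans (by norm_num)
      · exact (Nat.le_of_dvd (by norm_num) h1).trans (by norm_num)
      · exact (Nat.le_of_dvd (by norm_num) h1).trans (by norm_num)
      · exact Nat.le_of_dvd (by norm_num) h1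
    · rw [← map_mul, ← map_mul, hc]
  · intro t k E ht htp hk hE hdvd h23 hexp hcomm _
    by_cases ht2 : t = 2
    · subst ht2
      have hk18 : k ≤ 18 := by
        by_contra hcon
        have h1 : 2 ^ 19 ∣ Nat.card G := (pow_dvd_pow 2 (by omega)).trans hdvd
        rw [hcard] at h1
        norm_num at h1
      have hk11 : 11 ≤ k := by
        by_contra hcon
        push Not at hcon
        interval_cases k <;> norm_num at h23
      -- transport
      have h1 := Cfsg.Agent.Omega.CoTwoK.RankCo2.card_le (A := E.map e.toMonoidHom) (by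
        rintro _ ⟨a, ha, rfl⟩
        rw [← map_mul, ← pow_two, hexp a ha, map_one])
      rw [Nat.card_congr (E.equivMapOfInjective e.toMonoidHom e.injective).toEquiv.symm, hE] at h1
      exact absurd h1 (not_le.2 (Nat.pow_lt_pow_right (by norm_num) (by omega)))
    · have h1 : t ^ k ∣ 23 * ([(3, 6), (5, 3), (7, 1), (11, 1)].map fun x : ℕ × ℕ => x.1 ^ x.2).prod := by
        have h2 : t ^ k ∣ 2 ^ 18 * (23 * ([(3, 6), (5, 3), (7, 1), (11, 1)].map fun x : ℕ × ℕ => x.1 ^ x.2).prod) := by
          rw [hcard] at hdvd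
          convert hdvd using 1
          decide +kernel
        exact (Nat.Coprime.pow k 18 ((Nat.coprime_primes ht Nat.prime_two).2 ht2)).dvd_of_dvd_mul_left h2
      exact arith_of_list (p := 23) [(3, 6), (5, 3), (7, 1), (11, 1)] (by norm_num) rfl hp (by decide +kernel)
        (by decide +kernel) t k ht htp hk h1 h23

end Cfsg.Agent.H821.SpCo2
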