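import Mathlib

/-!
# Fixed points of `p`-subgroups acting by conjugation (helper821)

* `card_modEq` : `|N| ≡ |C_N(P)|` mod `p` for a `p`-group `P` normalising `N`;
* `index_modEq` : `|X : M| ≡ 1` mod `p` if `M` contains the normaliser in `X` of a Sylow `p`-subgroup `P` of `X`
  (here: `P` is Sylow in the whole group);
* `exists_fixed` : if the `p`-group `P` normalises the `p'`-group `Y` and centralises `w` modulo `Y`, then `P`
  centralises an element of `w Y`.
-/

set_option autoImplicit false

namespace Cfsg.Agent.H821.FixCard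

open Subgroup

variable {H : Type*} [Group H] [Finite H] {p : ℕ} [Fact p.Prime]

theorem card_modEq {N P : Subgroup H} (hP : IsPGroup p P) (hPN : P ≤ normalizer (N : Set H)) :
    Nat.card N ≡ Nat.card (N ⊓ centralizer (P : Set H) : Subgroup H) [MOD p] := by
  let _ : MulAction P N :=
    { smul := fun x n => ⟨x * n * (x : H)⁻¹, (mem_normalizer_iff.1 (hPN x.2) n).1 n.2⟩
      one_smul := by
        intro n
        apply Subtype.ext
        show (1 : H) * n * (1 : H)⁻¹ = n
        group
      mul_smul := by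
        intro x y n
        apply Subtype.ext
        show (x * y : H) * n * (x * y : H)⁻¹ = x * (y * n * (y : H)⁻¹) * (x : H)⁻¹
        group }
  have h1 := hP.card_modEq_card_fixedPoints N
  have e : MulAction.fixedPoints P N ≃ (N ⊓ centralizer (P : Set H) : Subgroup H) :=
    { toFun := fun a => ⟨a.1, mem_inf.2 ⟨a.1.2, by
        rw [mem_centralizer_iff]
        intro l hl
        have h4 := congrArg Subtype.val (a.2 ⟨l, hl⟩)
        have h5 : l * (a.1 : H) * l⁻¹ = a.1 := h4
        rwa [mul_inv_eq_iff_eq_mul] at h5⟩⟩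
      invFun := fun a => ⟨⟨a.1, (mem_inf.1 a.2).1⟩, by
        intro x
        apply Subtype.ext
        show (x : H) * a.1 * (x : H)⁻¹ = a.1
        rw [mul_inv_eq_iff_eq_mul]
        exact mem_centralizer_iff.1 (mem_inf.1 a.2).2 x x.2⟩
      left_inv := fun a => rfl
      right_inv := fun a => rfl }
  rwa [Nat.card_congr e] at h1

theorem exists_fixed {Y P : Subgroup H} (hP : IsPGroup p P) (hPY : P ≤ normalizer (Y : Set H))
    (hY : ¬ p ∣ Nat.card Y) {w : H} (hw : ∀ x ∈ P, w⁻¹ * (x * w * x⁻¹) ∈ Y) :
    ∃ y ∈ Y, ∀ x ∈ P, x * (w * y) = w * y * x := by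
  let S := {g : H // w⁻¹ * g ∈ Y}
  have hS : Nat.card S = Nat.card Y := Nat.card_congr
    { toFun := fun g => ⟨w⁻¹ * g.1, g.2⟩
      invFun := fun y => ⟨w * y.1, by rw [inv_mul_cancel_left]; exact y.2⟩
      left_inv := fun g => Subtype.ext (by simp)
      right_inv := fun y => Subtype.ext (by simp) }
  let _ : MulAction P S :=
    { smul := fun x g => ⟨x * g * (x : H)⁻¹, by
        have h1 : w⁻¹ * (x * g * (x : H)⁻¹) = w⁻¹ * (x * w * (x : H)⁻¹) * (x * (w⁻¹ * g) * (x : H)⁻¹) := by group
        rw [h1]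
        exact Y.mul_mem (hw x x.2) ((mem_normalizer_iff.1 (hPY x.2) _).1 g.2)⟩
      one_smul := by
        intro n
        apply Subtype.ext
        show (1 : H) * n * (1 : H)⁻¹ = n
        group
      mul_smul := by
        intro x y n
        apply Subtype.ext
        show (x * y : H) * n * (x * y : H)⁻¹ = x * (y * n * (y : H)⁻¹) * (x : H)⁻¹
        group }
  have hfin : Finite S := inferInstance
  obtain ⟨g, hg⟩ := hP.nonempty_fixed_point_of_prime_not_dvd_card S (by rw [hS]; exact hY)
  refine ⟨w⁻¹ * g.1, g.2, fun x hx => ?_⟩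
  have h4 := congrArg Subtype.val (hg ⟨x, hx⟩)
  have h5 : x * (g : H) * x⁻¹ = g := h4
  rw [mul_inv_cancel_left]
  rwa [mul_inv_eq_iff_eq_mul] at h5

theorem index_modEq {M X : Subgroup H} (hMX : M ≤ X) (P : Sylow p H)
    (hP : normalizer ((P : Subgroup H) : Set H) ≤ M) : M.relIndex X ≡ 1 [MOD p] := by
  have hPM : (P : Subgroup H) ≤ M := le_normalizer.trans hP
  have hPX : (P : Subgroup H) ≤ X := hPM.trans hMX
  have key : ∀ Y : Subgroup H, normalizer ((P : Subgroup H) : Set H) ≤ Y →
      (normalizer ((P : Subgroup H) : Set H)).relIndex Y ≡ 1 [MOD p] := by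
    intro Y hY
    have hPY : (P : Subgroup H) ≤ Y := le_normalizer.trans hY
    have h1 := card_sylow_modEq_one p Y
    have h2 := (P.subtype hPY).card_eq_index_normalizer
    have h3 : normalizer ((P.subtype hPY : Sylow p Y) : Set Y) =
        (normalizer ((P : Subgroup H) : Set H)).subgroupOf Y := (subgroupOf_normalizer_eq hPY).symm
    rw [h2, h3] at h1
    exact h1
  have h1 := key M hP
  have h2 := key X (hP.trans hMX)
  rw [← relIndex_mul_relIndex _ _ _ hP hMX] at h2
  have h3 := (h1.mul_right (M.relIndex X)).symm.trans h2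
  rwa [one_mul] at h3

end Cfsg.Agent.H821.FixCard
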