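import Cfsg.Agent.H820.Bridge
import Cfsg.Agent.MonsterU.AmalInf
import Cfsg.Agent.MonsterU.CoFrameF
import Cfsg.Agent.MonsterU.Fused

/-!
# `Q ∩ Q^g` in a group of Monster type (helper821)

For a chart `h : Chart Q z eta pi` and a conjugate `s = g z g⁻¹ ≠ z` of `z` in `Q`: the chart can be chosen such that
`eta s` is the frame class; `Q ∩ Q^g` is the inverse image of `W12` (order `2 ^ 13`, elementary abelian); the image
of `C(z) ∩ C(s)` in `Co1` is the frame stabiliser `F = 2^11 : M24`, the image of `Q^g ∩ C(z)` the group `E` of the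
sign changes.
-/

set_option autoImplicit false

namespace Cfsg.Agent.H821.Frame

open Cfsg
open Cfsg.Agent.SporadicA
open Cfsg.Agent.SporadicA.Co0Mono (signCo0 permCo0)
open Cfsg.Agent.CoOneType.CoOneE (pr E)
open Cfsg.Agent.MonsterU.Lam2 (L2 cl cl_surjective bf qf IsType)
open Cfsg.Agent.MonsterU.CoFrameL2 (f0 W1 W12 W23 F f0_mem_W1 W1_le_W12)
open Cfsg.Agent.MonsterU.CoFrameIrr (card_W12 card_E)
open Cfsg.Agent.MonsterU.AmalGen (pre mem_pre EE Eab)
open Cfsg.Agent.MonsterU.Ch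
open Cfsg.Agent.MonsterU
open Cfsg.Spor (Co1)

variable {G : Type*} [Group G] {Q : Subgroup G} {z : G} {eta : G → L2}
  {pi : Subgroup.centralizer ({z} : Set G) →* Co1}

/-- the order of the inverse image of a subgroup of `Λ / 2Λ` -/
theorem card_pre (h : Chart Q z eta pi) (W : AddSubgroup L2) :
    Nat.card (pre h W) = 2 * Nat.card W := by
  let f : pre h W →* Multiplicative W :=
    { toFun := fun q => Multiplicative.ofAdd ⟨eta q, q.2.2⟩
      map_one' := by
        have : (⟨eta ((1 : pre h W) : G), (1 : pre h W).2.2⟩ : W) = 0 := Subtype.ext h.eta_one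
        rw [this]; rfl
      map_mul' := by
        intro a b
        have : (⟨eta ((a * b : pre h W) : G), (a * b).2.2⟩ : W) = ⟨eta a, a.2.2⟩ + ⟨eta b, b.2.2⟩ :=
          Subtype.ext (h.eta_mul a a.2.1 b b.2.1)
        rw [this]; rfl }
  have hf : ∀ q : pre h W, f q = Multiplicative.ofAdd ⟨eta q, q.2.2⟩ := fun q => rfl
  have hs : Function.Surjective f := by
    intro w
    obtain ⟨x, hx, hxw⟩ := h.eta_surj (Multiplicative.toAdd w : W)
    refine ⟨⟨x, hx, by rw [hxw]; exact (Multiplicative.toAdd w : W).2⟩, ?_⟩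
    rw [hf]
    apply Multiplicative.toAdd.injective
    exact Subtype.ext hxw
  have hk : Nat.card f.ker = 2 := by
    rw [Nat.card_eq_two_iff]
    have hz : (⟨z, AmalGen.z_mem_pre h W⟩ : pre h W) ∈ f.ker := by
      rw [MonoidHom.mem_ker, hf]
      have : (⟨eta z, (AmalGen.z_mem_pre h W).2⟩ : W) = 0 := Subtype.ext h.eta_z
      rw [this]; rfl
    refine ⟨1, ⟨_, hz⟩, ?_, ?_⟩
    · intro e
      have h1 : (1 : G) = z := congrArg (fun t : f.ker => ((t : pre h W) : G)) e
      exact h.large.z_ne h1.symm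
    · rw [Set.eq_univ_iff_forall]
      rintro ⟨q, hq⟩
      rw [MonoidHom.mem_ker, hf] at hq
      have h1 : eta q = 0 := congrArg (fun t : Multiplicative W => ((Multiplicative.toAdd t : W) : L2)) hq
      rcases (h.eta_zero q q.2.1).1 h1 with h2 | h2
      · left
        exact Subtype.ext (Subtype.ext h2)
      · right
        exact Subtype.ext (Subtype.ext h2)
  have h1 := Subgroup.card_eq_card_quotient_mul_card_subgroup f.ker
  rw [hk, Nat.card_congr (QuotientGroup.quotientKerEquivOfSurjective f hs).toEquiv] at h1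
  rw [h1, mul_comm]
  rfl

theorem card_EE (h : Chart Q z eta pi) : Nat.card (EE h) = 2 ^ 13 := by
  have := card_pre h W12
  rw [card_W12] at this
  exact this.trans (by norm_num)

/-- the frame class is of type four -/
theorem type_f0 : IsType 4 f0 :=
  ⟨SporadicStructure.Co0Base.e8 none, Co1Simple.sqNorm_e8 none, rfl⟩

theorem exists_smul_f0 {v : L2} (hv : IsType 4 v) : ∃ s : Co1, s • v = f0 := by
  obtain ⟨g, hg⟩ := IsType.trans (Or.inr (Or.inr rfl)) hv type_f0
  exact ⟨QuotientGroup.mk g, hg⟩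

/-- `s` is a conjugate of `z` in `Q`, `eta s` the frame class, `τ` the cycle `z → s → z s` -/
structure Good (h : Chart Q z eta pi) (s τ : G) : Prop where
  mem : s ∈ Q
  eq : eta s = f0
  τz : τ * z * τ⁻¹ = s
  τs : τ * s * τ⁻¹ = z * s

theorem exists_good [Finite G] (h : Chart Q z eta pi) {s : G} (hsQ : s ∈ Q) (hne : s ≠ z)
    (hconj : ∃ g, g * z * g⁻¹ = s) :
    ∃ (σ : Co1) (τ : G), Good (h.smul σ) s τ := by
  obtain ⟨g, rfl⟩ := hconj
  obtain ⟨σ, hσ⟩ := exists_smul_f0 (Fused.type_four_of_conj h hsQ hne)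
  obtain ⟨τ, h1, h2, h3⟩ := (LargeExtra.Base.pair_of_conj h.large hsQ hne).cycle
  refine ⟨σ, τ, hsQ, hσ, h1, ?_⟩
  rw [h2]
  exact h.large.comm_z _ hsQ

/-- elements conjugating `z` to the same element conjugate `Q` to the same subgroup -/
theorem map_conj_eq (h : Chart Q z eta pi) {g τ : G} (hg : g * z * g⁻¹ = τ * z * τ⁻¹) :
    Q.map (MulAut.conj g).toMonoidHom = Q.map (MulAut.conj τ).toMonoidHom := by
  have key : ∀ {g τ : G}, g * z * g⁻¹ = τ * z * τ⁻¹ →
      Q.map (MulAut.conj g).toMonoidHom ≤ Q.map (MulAut.conj τ).toMonoidHom := by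
    rintro g τ hg _ ⟨q, hq, rfl⟩
    refine ⟨(τ⁻¹ * g) * q * (τ⁻¹ * g)⁻¹, ?_, ?_⟩
    · apply h.large.conj_mem _ _ q hq
      calc τ⁻¹ * g * z = τ⁻¹ * (g * z * g⁻¹) * g := by group
        _ = τ⁻¹ * (τ * z * τ⁻¹) * g := by rw [hg]
        _ = z * (τ⁻¹ * g) := by group
    · show τ * ((τ⁻¹ * g) * q * (τ⁻¹ * g)⁻¹) * τ⁻¹ = g * q * g⁻¹
      group
  exact le_antisymm (key hg) (key hg.symm)

section

variable {h : Chart Q z eta pi} {s τ : G} (gd : Good h s τ)
include gd

theorem inf_eq : Q ⊓ Q.map (MulAut.conj τ).toMonoidHom = EE h := by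
  ext q
  rw [Subgroup.mem_inf]
  exact (AmalInf.mem_EE_iff h gd.mem gd.eq gd.τz gd.τs).symm

theorem card_inf : Nat.card ↥(Q ⊓ Q.map (MulAut.conj τ).toMonoidHom) = 2 ^ 13 := by
  rw [inf_eq gd, card_EE]

/-- `Q ∩ Q ^ τ` is elementary abelian. -/
theorem EE_sq {e : G} (he : e ∈ EE h) : e * e = 1 := by
  rcases h.large.sq e he.1 with h1 | h1
  · exact h1
  · exfalso
    have h2 := AmalInf.Eτ h gd.mem gd.eq gd.τz gd.τs e he
    have h3 : τ * e * τ⁻¹ * (τ * e * τ⁻¹) = s := by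
      calc τ * e * τ⁻¹ * (τ * e * τ⁻¹) = τ * (e * e) * τ⁻¹ := by group
        _ = s := by rw [h1, gd.τz]
    rcases h.large.sq _ h2.1 with h4 | h4
    · rw [h4] at h3
      have := gd.eq
      rw [← h3, h.eta_one] at this
      exact CoFrameL2.f0_ne this.symm
    · rw [h4] at h3
      have := gd.eq
      rw [← h3, h.eta_z] at this
      exact CoFrameL2.f0_ne this.symm

/-- the image of `C(z) ∩ C(s)` is the frame stabiliser -/
theorem map_cent (σ : Co1) :
    σ ∈ F ↔ ∃ c : Subgroup.centralizer ({z} : Set G), (c : G) ∈ Subgroup.centralizer ({s} : Set G) ∧ pi c = σ := by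
  constructor
  · intro hσ
    obtain ⟨c, hc, hcs⟩ := AmalInf.exists_lift h gd.mem gd.eq hσ
    exact ⟨c, Subgroup.mem_centralizer_singleton_iff.2 hcs, hc⟩
  · rintro ⟨c, hc, rfl⟩
    exact AmalGen.pi_mem_F h gd.mem gd.eq c (Subgroup.mem_centralizer_singleton_iff.1 hc)

/-- the image of `Q ^ τ ∩ C(z)` is the group of the sign changes -/
theorem map_inf (σ : Co1) :
    σ ∈ E ↔ ∃ c : Subgroup.centralizer ({z} : Set G),
      (c : G) ∈ Q.map (MulAut.conj τ).toMonoidHom ∧ pi c = σ := by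
  constructor
  · intro hσ
    obtain ⟨a, ha, hc, hac⟩ := AmalInf.exists_CA_of_E h gd.mem gd.eq gd.τz gd.τs hσ
    exact ⟨⟨a, hc⟩, ha.1, hac⟩
  · rintro ⟨c, hc, rfl⟩
    exact AmalInf.pi_CA_mem_E h gd.mem gd.eq gd.τz gd.τs ⟨hc, c.2⟩ c.2

end

/-! ### `F = E : M24` -/

/-- the permutations in `Co1` -/
def permHom : M24 →* Co1 := pr.comp permCo0

theorem permHom_apply (σ : M24) : permHom σ = pr (signCo0 0 * permCo0 σ) := by
  rw [Co0Mono.signCo0_zero, one_mul]
  rfl

theorem permHom_mem (σ : M24) : permHom σ ∈ F := by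
  rw [permHom_apply]
  exact CoFrameF.sp_mem_F 0 σ

theorem permHom_injective : Function.Injective permHom := by
  intro σ τ hst
  rw [permHom_apply, permHom_apply] at hst
  exact (CoFrameF.pr_sp_eq hst).1

theorem permHom_mem_E {σ : M24} (hσ : permHom σ ∈ E) : σ = 1 := by
  obtain ⟨c, hc⟩ := hσ
  rw [permHom_apply] at hc
  have h1 : pr (signCo0 0 * permCo0 σ) = pr (signCo0 c * permCo0 1) := by
    rw [hc, map_one, mul_one]
  exact (CoFrameF.pr_sp_eq h1).1

theorem exists_of_mem_F {x : Co1} (hx : x ∈ F) : ∃ e ∈ E, ∃ σ : M24, x = e * permHom σ := by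
  obtain ⟨c, σ, rfl⟩ := CoFrameF.exists_of_mem_F hx
  exact ⟨pr (signCo0 c), ⟨c, rfl⟩, σ, by rw [map_mul]; rfl⟩

theorem E_inf_range : E ⊓ permHom.range = ⊥ := by
  rw [eq_bot_iff]
  rintro _ ⟨h1, σ, rfl⟩
  rw [permHom_mem_E h1, map_one]
  exact Subgroup.mem_bot.2 rfl

theorem E_sup_range : E ⊔ permHom.range = F := by
  apply le_antisymm
  · apply sup_le CoFrameL2.E_le_F
    rintro _ ⟨σ, rfl⟩
    exact permHom_mem σ
  · intro x hx
    obtain ⟨e, he, σ, rfl⟩ := exists_of_mem_F hx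
    exact Subgroup.mul_mem_sup he ⟨σ, rfl⟩

end Cfsg.Agent.H821.Frame
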