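import Cfsg.Agent.OrdDiv.Main

/-!
# Simple groups whose order divides the order of `J4` (helper821)
-/

set_option autoImplicit false

namespace Cfsg.Agent.H821.J4Orders

open Cfsg Cfsg.Agent.OrdDiv

universe u

/-- the order of `J4` -/
abbrev NN : ℕ := 86775571046077562880

/-- its prime factors -/
def ll : List (ℕ × ℕ) := [(2,21),(3,3),(5,1),(7,1),(11,3),(23,1),(29,1),(31,1),(37,1),(43,1)]

theorem valid_ll : valid ll NN = true := by decide +kernel

variable {S : Type u} [Group S]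

theorem exists_filter (T : OrderTable.{u}) (hk : IsKnownSimple' S) (hna : ¬ ∀ a b : S, a * b = b * a)
    (hd : Nat.card S ∣ NN) (P : ℕ → Bool) (hP : P (Nat.card S) = true) :
    ∃ g ∈ (cands ll NN).filter (fun g => P (ordN g)), Real g S ∧ Nat.card S = ordN g := by
  obtain ⟨g, h1, h2, h3⟩ := exists_good T hk hna valid_ll hd
  exact ⟨g, List.mem_filter.2 ⟨h1, by rw [← h3]; exact hP⟩, h2, h3⟩

/-- the squares of the orders of the simple groups do not divide `|J4|` -/
theorem not_sq_dvd (T : OrderTable.{u}) (hk : IsKnownSimple' S) (hna : ¬ ∀ a b : S, a * b = b * a) :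
    ¬ Nat.card S ^ 2 ∣ NN := by
  intro h
  have hd : Nat.card S ∣ NN := (Dvd.intro_left _ (pow_two _).symm).trans h
  obtain ⟨g, hg, -, -⟩ := exists_filter T hk hna hd (fun n => NN % n ^ 2 == 0) (by
    simpa using Nat.mod_eq_zero_of_dvd h)
  rw [show (cands ll NN).filter (fun g => (NN % (ordN g) ^ 2 == 0)) = [] from by decide +kernel] at hg
  exact List.not_mem_nil hg

/-- only `J4` has an order divisible by `2 ^ 11` -/
theorem card_eq_of_two_pow (T : OrderTable.{u}) (hk : IsKnownSimple' S) (hna : ¬ ∀ a b : S, a * b = b * a)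
    (hd : Nat.card S ∣ NN) (h2 : 2 ^ 11 ∣ Nat.card S) : Nat.card S = NN := by
  obtain ⟨g, hg, -, h3⟩ := exists_filter T hk hna hd (fun n => n % 2 ^ 11 == 0) (by
    simpa using Nat.mod_eq_zero_of_dvd h2)
  rw [show (cands ll NN).filter (fun g => (ordN g % 2 ^ 11 == 0)) = [.j4] from by decide +kernel] at hg
  rw [List.mem_singleton.1 hg] at h3
  exact h3

/-- the orders are even -/
theorem even (T : OrderTable.{u}) (hk : IsKnownSimple' S) (hna : ¬ ∀ a b : S, a * b = b * a)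
    (hd : Nat.card S ∣ NN) : ¬ Odd (Nat.card S) := by
  intro h
  obtain ⟨g, hg, -, -⟩ := exists_filter T hk hna hd (fun n => n % 2 == 1) (by
    simpa using Nat.odd_iff.1 h)
  rw [show (cands ll NN).filter (fun g => (ordN g % 2 == 1)) = [] from by decide +kernel] at hg
  exact List.not_mem_nil hg

/-- no fourth power of an odd prime divides `|J4|` -/
theorem not_pow_four {r : ℕ} (hr : r.Prime) (hr2 : r ≠ 2) : ¬ r ^ 4 ∣ NN := by
  intro h
  have h1 : r ^ 4 ∣ 2 ^ 21 * (3 ^ 3 * 5 * 7 * 11 ^ 3 * 23 * 29 * 31 * 37 * 43) := h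
  have h2 : Nat.Coprime (r ^ 4) (2 ^ 21) :=
    Nat.Coprime.pow _ _ ((Nat.coprime_primes hr Nat.prime_two).2 hr2)
  have h3 := h2.dvd_of_dvd_mul_left h1
  have h4 : r ∣ 3 ^ 3 * 5 * 7 * 11 ^ 3 * 23 * 29 * 31 * 37 * 43 := (dvd_pow_self r (by norm_num)).trans h3
  have h5 : r = 3 ∨ r = 5 ∨ r = 7 ∨ r = 11 ∨ r = 23 ∨ r = 29 ∨ r = 31 ∨ r = 37 ∨ r = 43 := by
    simp only [hr.dvd_mul] at h4
    have key : ∀ q k : ℕ, q.Prime → r ∣ q ^ k → r = q := fun q k hq h =>
      (Nat.prime_dvd_prime_iff_eq hr hq).1 (hr.dvd_of_dvd_pow h)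
    have key' : ∀ q : ℕ, q.Prime → r ∣ q → r = q := fun q hq h => (Nat.prime_dvd_prime_iff_eq hr hq).1 h
    rcases h4 with (((((((h4 | h4) | h4) | h4) | h4) | h4) | h4) | h4) | h4
    · exact Or.inl (key 3 3 (by norm_num) h4)
    · exact Or.inr (Or.inl (key' 5 (by norm_num) h4))
    · exact Or.inr (Or.inr (Or.inl (key' 7 (by norm_num) h4)))
    · exact Or.inr (Or.inr (Or.inr (Or.inl (key 11 3 (by norm_num) h4))))
    · exact Or.inr (Or.inr (Or.inr (Or.inr (Or.inl (key' 23 (by norm_num) h4)))))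
    · exact Or.inr (Or.inr (Or.inr (Or.inr (Or.inr (Or.inl (key' 29 (by norm_num) h4))))))
    · exact Or.inr (Or.inr (Or.inr (Or.inr (Or.inr (Or.inr (Or.inl (key' 31 (by norm_num) h4)))))))
    · exact Or.inr (Or.inr (Or.inr (Or.inr (Or.inr (Or.inr (Or.inr (Or.inl (key' 37 (by norm_num) h4))))))))
    · exact Or.inr (Or.inr (Or.inr (Or.inr (Or.inr (Or.inr (Or.inr (Or.inr (key' 43 (by norm_num) h4))))))))
  rcases h5 with rfl | rfl | rfl | rfl | rfl | rfl | rfl | rfl | rfl <;> revert h <;> norm_num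

end Cfsg.Agent.H821.J4Orders
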