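import Cfsg.Agent.LieClassical.SLGen
import Cfsg.Agent.S0242

/-!
# `SL_n(2)`, `n ≥ 3`, is simple; orders of `SL_3(2)` and `SL_5(2)` (helper821)
-/

set_option autoImplicit false

namespace Cfsg.Agent.H821.SLTwo

open Matrix

theorem center_eq_bot (n : ℕ) [NeZero n] : Subgroup.center (SpecialLinearGroup (Fin n) (ZMod 2)) = ⊥ := by
  rw [eq_bot_iff]
  intro A hA
  rw [Matrix.SpecialLinearGroup.mem_center_iff] at hA
  obtain ⟨r, hr, hrA⟩ := hA
  have h1 : r = 1 := by
    have h2 : ∀ x : ZMod 2, x = 0 ∨ x = 1 := by decide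
    rcases h2 r with h | h
    · rw [h, Fintype.card_fin, zero_pow (NeZero.ne n)] at hr
      exact absurd hr (by decide)
    · exact h
  rw [Subgroup.mem_bot]
  apply Subtype.ext
  rw [← hrA, h1]
  simp

theorem simple (n : ℕ) (hn : 3 ≤ n) : IsSimpleGroup (SpecialLinearGroup (Fin n) (ZMod 2)) := by
  have : NeZero n := ⟨by omega⟩
  have : Fact (Nat.Prime 2) := ⟨Nat.prime_two⟩
  have h1 : IsSimpleGroup (Matrix.ProjectiveSpecialLinearGroup (Fin n) (ZMod 2)) :=
    Cfsg.Agent.LieClassical.SLGen.psl_isSimpleGroup (by rw [Fintype.card_fin]; exact hn)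
  have e : SpecialLinearGroup (Fin n) (ZMod 2) ≃* Matrix.ProjectiveSpecialLinearGroup (Fin n) (ZMod 2) :=
    (QuotientGroup.quotientBot (G := SpecialLinearGroup (Fin n) (ZMod 2))).symm.trans
      (QuotientGroup.quotientMulEquivOfEq (center_eq_bot n).symm)
  exact e.isSimpleGroup

theorem card_three : Nat.card (SpecialLinearGroup (Fin 3) (ZMod 2)) = 168 := by
  have : Fact (Nat.Prime 2) := ⟨Nat.prime_two⟩
  have h := Cfsg.Agent.S0242.result (F := ZMod 2) (q := 2) (ZMod.card 2) 3 (by norm_num)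
  rw [show (2 - 1 : ℕ) = 1 from rfl, one_mul] at h
  rw [h, Fin.prod_univ_three]
  rfl

theorem card_five : Nat.card (SpecialLinearGroup (Fin 5) (ZMod 2)) = 9999360 := by
  have : Fact (Nat.Prime 2) := ⟨Nat.prime_two⟩
  have h := Cfsg.Agent.S0242.result (F := ZMod 2) (q := 2) (ZMod.card 2) 5 (by norm_num)
  rw [show (2 - 1 : ℕ) = 1 from rfl, one_mul] at h
  rw [h, Fin.prod_univ_five]
  rfl

end Cfsg.Agent.H821.SLTwo
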