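import Cfsg.Agent.H821.TwoLocalMax

/-!
# A criterion for the maximality of a 2-local subgroup (helper821)

`isCoatom` : in a finite group `G` in which no non-abelian simple subgroup `T` has `|T|² ∣ |G|`, the normaliser of a
2-subgroup `L` (with the hypotheses of `TwoLocalMax.main`) is maximal, if it normalises no non-trivial abelian
subgroup of odd prime power order and no proper non-abelian simple subgroup containing `L`.
-/

set_option autoImplicit false
set_option linter.unusedSectionVars false

namespace Cfsg.Agent.H821.TwoLocalCoatom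

open Subgroup
open scoped commutatorElement

variable {G : Type*} [Group G] [Finite G]

/-- non-abelian simple subgroups are perfect -/
theorem perfect_of_simple {T : Subgroup G} (hT : IsSimpleGroup T) (hab : ¬ ∀ a ∈ T, ∀ b ∈ T, a * b = b * a) :
    ⁅T, T⁆ = T := by
  have h1 : commutator T = ⊤ := by
    rcases (inferInstance : (commutator T).Normal).eq_bot_or_eq_top with h | h
    · exfalso
      apply hab
      intro a ha b hb
      have h2 : ⁅(⟨a, ha⟩ : T), ⟨b, hb⟩⁆ ∈ commutator T := by
        rw [commutator_def]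
        exact commutator_mem_commutator (mem_top _) (mem_top _)
      rw [h, mem_bot, commutatorElement_eq_one_iff_mul_comm] at h2
      exact congrArg Subtype.val h2
    · exact h
  have h2 := congrArg (map T.subtype) h1
  rwa [map_subtype_commutator, ← MonoidHom.range_eq_map, range_subtype] at h2

variable {K : Subgroup G}

/-- normalisers in a subgroup -/
theorem mem_normalizer_map {W : Subgroup K} {k : G} (hk : k ∈ K) :
    k ∈ normalizer ((W.map K.subtype : Subgroup G) : Set G) ↔ (⟨k, hk⟩ : K) ∈ normalizer (W : Set K) := by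
  rw [mem_normalizer_iff_map_conj_eq, mem_normalizer_iff_map_conj_eq, map_map]
  constructor
  · intro h
    apply map_injective K.subtype_injective
    rw [map_map]
    exact h
  · intro h
    conv_rhs => rw [← h]
    rw [map_map]
    rfl

theorem map_subgroupOf {A : Subgroup G} (h : A ≤ K) : (A.subgroupOf K).map K.subtype = A := by
  rw [subgroupOf_map_subtype, inf_eq_left.2 h]

theorem normalizer_subgroupOf {A : Subgroup G} (h : A ≤ K) :
    normalizer ((A.subgroupOf K : Subgroup K) : Set K) = (normalizer (A : Set G)).subgroupOf K := by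
  ext x
  rw [mem_subgroupOf, ← mem_normalizer_map x.2, map_subgroupOf h]

theorem isCoatom {L Z : Subgroup G} (hL : IsPGroup 2 L) (hL1 : L ≠ ⊥) (hZL : Z ≤ L)
    (hZc : ∀ a ∈ Z, ∀ b ∈ Z, a * b = b * a)
    (hirr : ∀ W ≤ L, normalizer (L : Set G) ≤ normalizer (W : Set G) → W = ⊥ ∨ W = Z ∨ W = L)
    (hZN : Z ≠ ⊥ → normalizer (Z : Set G) ≤ normalizer (L : Set G))
    (hO : ∀ W ≤ normalizer (L : Set G), normalizer (L : Set G) ≤ normalizer (W : Set G) → IsPGroup 2 W → W ≤ L)
    (hC : centralizer (L : Set G) ≤ L)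
    (he : Z = L ∨ ∀ W ≤ normalizer (L : Set G), normalizer (L : Set G) ≤ normalizer (W : Set G) → ⁅W, L⁆ ≤ Z →
      W ≤ L)
    (hR : ∀ R : Subgroup G, normalizer (L : Set G) ≤ normalizer (R : Set G) →
      (∀ a ∈ R, ∀ b ∈ R, a * b = b * a) → ∀ r m : ℕ, r.Prime → r ≠ 2 → Nat.card R = r ^ m → R = ⊥)
    (hodd : ∀ T : Subgroup G, IsSimpleGroup T → Odd (Nat.card T) → ∀ a ∈ T, ∀ b ∈ T, a * b = b * a)
    (hsq : ∀ T : Subgroup G, IsSimpleGroup T → (¬ ∀ a ∈ T, ∀ b ∈ T, a * b = b * a) → ¬ Nat.card T ^ 2 ∣ Nat.card G)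
    (hbig : ∀ T : Subgroup G, IsSimpleGroup T → (¬ ∀ a ∈ T, ∀ b ∈ T, a * b = b * a) → L ≤ T →
      normalizer (L : Set G) ≤ normalizer (T : Set G) → T = ⊤)
    (hne : normalizer (L : Set G) ≠ ⊤) : IsCoatom (normalizer (L : Set G)) := by
  refine ⟨hne, fun K hK => ?_⟩
  set M := normalizer (L : Set G) with hM
  have hMK : M ≤ K := hK.le
  have hLK : L ≤ K := le_normalizer.trans hMK
  have hZK : Z ≤ K := hZL.trans hLK
  have hNL : normalizer ((L.subgroupOf K : Subgroup K) : Set K) = M.subgroupOf K := normalizer_subgroupOf hLK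
  -- transfer of invariance
  have hinv : ∀ W : Subgroup K, normalizer ((L.subgroupOf K : Subgroup K) : Set K) ≤ normalizer (W : Set K) →
      M ≤ normalizer ((W.map K.subtype : Subgroup G) : Set G) := by
    intro W hW m hm
    rw [mem_normalizer_map (hMK hm)]
    apply hW
    rw [hNL, mem_subgroupOf]
    exact hm
  have hle : ∀ {W : Subgroup K} {A : Subgroup G}, W ≤ A.subgroupOf K → W.map K.subtype ≤ A := by
    rintro W A h _ ⟨w, hw, rfl⟩
    exact mem_subgroupOf.1 (h hw)
  have hinj : ∀ {W : Subgroup K} {A : Subgroup G}, W.map K.subtype = A → W = A.subgroupOf K := by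
    intro W A h
    rw [← h]
    exact (comap_map_eq_self_of_injective K.subtype_injective W).symm
  have hcard : ∀ {A : Subgroup G}, A ≤ K → Nat.card (A.subgroupOf K) = Nat.card A := fun h =>
    Nat.card_congr (subgroupOfEquivOfLe h).toEquiv
  have hsimple : ∀ T : Subgroup K, IsSimpleGroup T → IsSimpleGroup (T.map K.subtype : Subgroup G) := by
    intro T hT
    exact (T.equivMapOfInjective K.subtype K.subtype_injective).symm.isSimpleGroup
  have hcommT : ∀ T : Subgroup K, (∀ a ∈ T.map K.subtype, ∀ b ∈ T.map K.subtype, a * b = b * a) →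
      ∀ a ∈ T, ∀ b ∈ T, a * b = b * a := by
    intro T h a ha b hb
    exact Subtype.ext (h a ⟨a, ha, rfl⟩ b ⟨b, hb, rfl⟩)
  have hcardT : ∀ T : Subgroup K, Nat.card (T.map K.subtype : Subgroup G) = Nat.card T := fun T =>
    (Nat.card_congr (T.equivMapOfInjective K.subtype K.subtype_injective).toEquiv).symm
  have main := TwoLocalMax.main (H := K) (L := L.subgroupOf K) (Z := Z.subgroupOf K)
    (hL.comap_of_injective K.subtype K.subtype_injective) ?_ ?_ ?_ ?_ ?_ ?_ ?_ ?_ ?_ ?_
  · rcases main with hn | ⟨N, T, m, hNn, hLN, hTN, hT, hab, hm, ⟨e⟩, hperf⟩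
    · exfalso
      have h1 : K ≤ M := by
        intro k hk
        have h2 : (⟨k, hk⟩ : K) ∈ normalizer ((L.subgroupOf K : Subgroup K) : Set K) := by
          rw [normalizer_eq_top]
          exact mem_top _
        rw [hNL, mem_subgroupOf] at h2
        exact h2
      exact absurd (lt_of_lt_of_le hK h1) (lt_irrefl _)
    · have hcardN : Nat.card N = Nat.card T ^ m := by
        rw [Nat.card_congr e.toEquiv, Nat.card_pi, Finset.prod_const, Finset.card_univ, Fintype.card_fin]
      have hab' : ¬ ∀ a ∈ T.map K.subtype, ∀ b ∈ T.map K.subtype, a * b = b * a := fun h => hab (hcommT T h)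
      have hm1 : m = 1 := by
        by_contra hm2
        refine hsq (T.map K.subtype) (hsimple T hT) hab' ?_
        rw [hcardT]
        refine (pow_dvd_pow _ (show 2 ≤ m by omega)).trans ?_
        rw [← hcardN, ← hcardT]
        exact card_subgroup_dvd_card _
      have hTN' : T = N := by
        refine eq_of_le_of_card_ge hTN ?_
        rw [hcardN, hm1, pow_one]
      subst hTN'
      have h1 := hbig (T.map K.subtype) (hsimple T hT) hab' ?_ ?_
      · rw [eq_top_iff, ← h1]
        rintro _ ⟨x, -, rfl⟩
        exact x.2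
      · rw [← map_subgroupOf hLK]
        exact map_mono hLN
      · refine hinv T ?_
        rw [normalizer_eq_top T]
        exact le_top
  · -- hL1
    intro h
    apply hL1
    rw [← map_subgroupOf hLK, h, Subgroup.map_bot]
  · -- hZL
    exact fun x hx => mem_subgroupOf.2 (hZL (mem_subgroupOf.1 hx))
  · -- hZc
    intro a ha b hb
    exact Subtype.ext (hZc _ (mem_subgroupOf.1 ha) _ (mem_subgroupOf.1 hb))
  · -- hirr
    intro W hW hW'
    rcases hirr (W.map K.subtype) (hle hW) (hinv W hW') with h | h | h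
    · left
      exact (map_eq_bot_iff_of_injective _ K.subtype_injective).1 h
    · right; left
      exact hinj h
    · right; right
      exact hinj h
  · -- hZN
    intro hZ
    rw [normalizer_subgroupOf hZK, hNL]
    have hZ' : Z ≠ ⊥ := by
      rintro rfl
      exact hZ (by rw [bot_subgroupOf])
    exact fun x hx => mem_subgroupOf.2 (hZN hZ' (mem_subgroupOf.1 hx))
  · -- hO
    intro W hW hW' hW2
    have h1 := hO (W.map K.subtype) (hle (hNL ▸ hW)) (hinv W hW') (hW2.map _)
    intro x hx
    exact mem_subgroupOf.2 (h1 ⟨x, hx, rfl⟩)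
  · -- hC
    intro x hx
    rw [mem_subgroupOf]
    apply hC
    rw [mem_centralizer_iff] at hx ⊢
    intro y hy
    exact congrArg Subtype.val (hx ⟨y, hLK hy⟩ (mem_subgroupOf.2 hy))
  · -- he
    rcases he with he | he
    · left
      rw [he]
    · right
      intro W hW hW' hcomm
      have h1 := he (W.map K.subtype) (hle (hNL ▸ hW)) (hinv W hW') ?_
      · intro x hx
        exact mem_subgroupOf.2 (h1 ⟨x, hx, rfl⟩)
      · have h2 := map_mono (f := K.subtype) hcomm
        rw [map_commutator, map_subgroupOf hLK, map_subgroupOf hZK] at h2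
        exact h2
  · -- hR
    intro R hRn hRc r m hr hr2 hcR
    have h1 := hR (R.map K.subtype) ?_ ?_ r m hr hr2 (by rw [hcardT]; exact hcR)
    · exact (map_eq_bot_iff_of_injective _ K.subtype_injective).1 h1
    · refine hinv R ?_
      rw [normalizer_eq_top R]
      exact le_top
    · rintro _ ⟨a, ha, rfl⟩ _ ⟨b, hb, rfl⟩
      exact congrArg Subtype.val (hRc a ha b hb)
  · intro T hT hTo
    apply hcommT
    exact hodd _ (hsimple T hT) (by rw [hcardT]; exact hTo)

end Cfsg.Agent.H821.TwoLocalCoatom
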