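import Cfsg.Prelude.Def_Transfer
import Cfsg.Prelude.Def_Spor_Mathieu
import Cfsg.Agent.H821.TwoLocalCoatom
import Cfsg.Agent.H821.J4Orders
import Cfsg.Agent.H821.SLTwo
import Cfsg.Agent.GH.C2GrowG
import Cfsg.Agent.S0365
import Cfsg.Agent.SporadicA.M24Trans

/-!
# The normalisers of `2^11` and `2^10` in `J4` are maximal (helper821)
-/

set_option autoImplicit false
set_option linter.unusedSectionVars false

namespace Cfsg.Agent.H821.J4MaxA

open Subgroup Cfsg Cfsg.Agent.OrdDiv Cfsg.Agent.H821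
open Cfsg.Agent.H821.J4Orders (NN)
open scoped commutatorElement

universe u

variable {G : Type u} [Group G] [Finite G]

theorem le_normalizer_sup {K S T : Subgroup G} (hS : K ≤ normalizer (S : Set G))
    (hT : K ≤ normalizer (T : Set G)) : K ≤ normalizer ((S ⊔ T : Subgroup G) : Set G) := by
  intro k hk
  rw [mem_normalizer_iff_map_conj_eq, Subgroup.map_sup, mem_normalizer_iff_map_conj_eq.1 (hS hk),
    mem_normalizer_iff_map_conj_eq.1 (hT hk)]

theorem elem_sq {L : Subgroup G} (hL : IsElementaryAbelian 2 L) : ∀ a ∈ L, a * a = 1 := by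
  intro a ha
  rw [← pow_two]
  exact hL.2 a ha

theorem elem_comm {L : Subgroup G} (hL : IsElementaryAbelian 2 L) : ∀ a ∈ L, ∀ b ∈ L, a * b = b * a := by
  intro a ha b hb
  have := hL.1
  exact congrArg Subtype.val (mul_comm' (⟨a, ha⟩ : L) ⟨b, hb⟩)

/-- `O_2` of a split extension of a 2-group by a simple group which is not a 2-group -/
theorem core_le {L K : Subgroup G} (hL : IsPGroup 2 L) (hK : K ≤ normalizer (L : Set G))
    (hsup : K ⊔ L = normalizer (L : Set G)) (hs : IsSimpleGroup K) (h2 : ¬ IsPGroup 2 K) (W : Subgroup G)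
    (hW : W ≤ normalizer (L : Set G)) (hWn : normalizer (L : Set G) ≤ normalizer (W : Set G))
    (hW2 : IsPGroup 2 W) : W ≤ L := by
  have hWL : IsPGroup 2 (L ⊔ W : Subgroup G) := hL.to_sup_of_normal_right' hW2 (le_normalizer.trans hWn)
  have hn : (((L ⊔ W) ⊓ K).subgroupOf K).Normal := by
    rw [← normalizer_eq_top_iff, TwoLocalCoatom.normalizer_subgroupOf inf_le_right, subgroupOf_eq_top]
    refine Lib.MinNormal.le_normalizer_inf ?_ le_normalizer
    exact le_normalizer_sup hK (hK.trans hWn)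
  rcases hn.eq_bot_or_eq_top with h | h
  · have h1 : (L ⊔ W) ⊓ K = ⊥ := by
      have := congrArg (map K.subtype) h
      rwa [TwoLocalCoatom.map_subgroupOf inf_le_right, Subgroup.map_bot] at this
    intro w hw
    have h3 : w ∈ K ⊔ L := hsup.symm ▸ hW hw
    rw [← SetLike.mem_coe, coe_mul_of_left_le_normalizer_right K L hK, Set.mem_mul] at h3
    obtain ⟨k, hk, l, hl, rfl⟩ := h3
    have h4 : k ∈ (L ⊔ W) ⊓ K := by
      refine mem_inf.2 ⟨?_, hk⟩
      have := (L ⊔ W).mul_mem (mem_sup_right hw) ((L ⊔ W).inv_mem (mem_sup_left hl))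
      rwa [mul_inv_cancel_right] at this
    rw [h1, mem_bot] at h4
    rw [h4, one_mul]
    exact hl
  · exfalso
    rw [subgroupOf_eq_top] at h
    exact h2 (hWL.to_le (h.trans inf_le_left))

/-- the criterion `TwoLocalCoatom.isCoatom` for groups of the order of `J4` -/
theorem isCoatom_of (T : OrderTable.{u}) (hS : ∀ (X : Type u) [Group X] [Finite X] [IsSimpleGroup X], IsKnownSimple' X)
    (hG : Nat.card G = NN) {L Z : Subgroup G} (hL : IsPGroup 2 L) (hL1 : L ≠ ⊥) (hZL : Z ≤ L)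
    (hZc : ∀ a ∈ Z, ∀ b ∈ Z, a * b = b * a)
    (hirr : ∀ W ≤ L, normalizer (L : Set G) ≤ normalizer (W : Set G) → W = ⊥ ∨ W = Z ∨ W = L)
    (hZN : Z ≠ ⊥ → normalizer (Z : Set G) ≤ normalizer (L : Set G))
    (hO : ∀ W ≤ normalizer (L : Set G), normalizer (L : Set G) ≤ normalizer (W : Set G) → IsPGroup 2 W → W ≤ L)
    (hC : centralizer (L : Set G) ≤ L)
    (he : Z = L ∨ ∀ W ≤ normalizer (L : Set G), normalizer (L : Set G) ≤ normalizer (W : Set G) → ⁅W, L⁆ ≤ Z →
      W ≤ L)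
    (hR : ∀ R : Subgroup G, normalizer (L : Set G) ≤ normalizer (R : Set G) →
      (∀ a ∈ R, ∀ b ∈ R, a * b = b * a) → ∀ r m : ℕ, r.Prime → r ≠ 2 → Nat.card R = r ^ m → R = ⊥)
    (hbig : ∀ S : Subgroup G, IsSimpleGroup S → (¬ ∀ a ∈ S, ∀ b ∈ S, a * b = b * a) → L ≤ S →
      normalizer (L : Set G) ≤ normalizer (S : Set G) → 2 ^ 11 ∣ Nat.card S)
    (hne : normalizer (L : Set G) ≠ ⊤) : IsCoatom (normalizer (L : Set G)) := by
  have hna : ∀ S : Subgroup G, (¬ ∀ a ∈ S, ∀ b ∈ S, a * b = b * a) → ¬ ∀ a b : S, a * b = b * a := by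
    intro S h h1
    exact h fun a ha b hb => congrArg Subtype.val (h1 ⟨a, ha⟩ ⟨b, hb⟩)
  have hd : ∀ S : Subgroup G, Nat.card S ∣ NN := fun S => hG ▸ card_subgroup_dvd_card S
  refine TwoLocalCoatom.isCoatom hL hL1 hZL hZc hirr hZN hO hC he hR ?_ ?_ ?_ hne
  · intro S hs ho
    by_contra hab
    exact J4Orders.even T (hS S) (hna S hab) (hd S) ho
  · intro S hs hab
    rw [hG]
    exact J4Orders.not_sq_dvd T (hS S) (hna S hab)
  · intro S hs hab hLS hn
    have h1 := J4Orders.card_eq_of_two_pow T (hS S) (hna S hab) (hd S) (hbig S hs hab hLS hn)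
    exact eq_top_of_card_eq S (h1.trans hG.symm)

/-- elementary abelian case -/
theorem isCoatom_elem (T : OrderTable.{u})
    (hS : ∀ (X : Type u) [Group X] [Finite X] [IsSimpleGroup X], IsKnownSimple' X)
    (hG : Nat.card G = NN) {L K : Subgroup G} (hL : IsElementaryAbelian 2 L) (h8 : 8 < Nat.card L)
    (hC : centralizer (L : Set G) ≤ L)
    (hirr : ∀ W ≤ L, normalizer (L : Set G) ≤ normalizer (W : Set G) → W = ⊥ ∨ W = L)
    (hK : K ≤ normalizer (L : Set G)) (hKL : K ⊓ L = ⊥)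
    (hsup : K ⊔ L = normalizer (L : Set G)) (hs : IsSimpleGroup K) (h2 : ¬ IsPGroup 2 K)
    (hbig : 2 ^ 11 ∣ Nat.card L ∨ 2 ^ 11 ∣ Nat.card L * Nat.card K) (hlt : Nat.card L * Nat.card K < NN) :
    IsCoatom (normalizer (L : Set G)) := by
  have : Fact (Nat.Prime 2) := ⟨Nat.prime_two⟩
  have hL2 := elem_sq hL
  have hLc := elem_comm hL
  have hLp : IsPGroup 2 L := fun a => ⟨1, Subtype.ext (by
    rw [pow_one, pow_two]
    exact hL2 a a.2)⟩
  have hL1 : L ≠ ⊥ := by
    rintro rfl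
    rw [card_bot] at h8
    omega
  have hcM : Nat.card (normalizer (L : Set G)) = Nat.card L * Nat.card K := by
    have h := Cfsg.Agent.GH.C2GrowG.card_sup hK
    rw [hKL, card_bot, mul_one, hsup] at h
    rw [h, mul_comm]
  refine isCoatom_of T hS hG hLp hL1 le_rfl hLc ?_ (fun _ => le_rfl) (core_le hLp hK hsup hs h2) hC (Or.inl rfl)
    ?_ ?_ ?_
  · intro W hW hW'
    rcases hirr W hW hW' with h | h
    · exact Or.inl h
    · exact Or.inr (Or.inl h)
  · intro R hLR hRc r m hr hr2 hc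
    exact TwoLocalMax.odd_of_irr hL2 h8 hirr hC hLR hRc hr hr2 hc (by rw [hG]; exact J4Orders.not_pow_four hr hr2)
  · intro S hs' hab hLS hn
    rcases hbig with hb | hb
    · exact hb.trans (card_dvd_of_le hLS)
    · have hSK : ((S ⊓ K).subgroupOf K).Normal := by
        rw [← normalizer_eq_top_iff, TwoLocalCoatom.normalizer_subgroupOf inf_le_right, subgroupOf_eq_top]
        exact Lib.MinNormal.le_normalizer_inf (hK.trans hn) le_normalizer
      rcases hSK.eq_bot_or_eq_top with h | h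
      · exfalso
        have h1 : S ⊓ K = ⊥ := by
          have := congrArg (map K.subtype) h
          rwa [TwoLocalCoatom.map_subgroupOf inf_le_right, Subgroup.map_bot] at this
        refine hL1 (TwoLocalMax.eq_bot_of_self_norm (p := 2) (TwoLocalCoatom.perfect_of_simple hs' hab) hLS hLp hLc ?_)
        intro x hx
        obtain ⟨hx1, hx2⟩ := mem_inf.1 hx
        rw [← hsup, ← SetLike.mem_coe, coe_mul_of_left_le_normalizer_right K L hK, Set.mem_mul] at hx2
        obtain ⟨k, hk, l, hl, rfl⟩ := hx2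
        have h4 : k ∈ S ⊓ K := by
          refine mem_inf.2 ⟨?_, hk⟩
          have := S.mul_mem hx1 (S.inv_mem (hLS hl))
          rwa [mul_inv_cancel_right] at this
        rw [h1, mem_bot] at h4
        rw [h4, one_mul]
        exact hl
      · rw [subgroupOf_eq_top] at h
        refine hb.trans ?_
        rw [← hcM, ← hsup]
        exact card_dvd_of_le (sup_le (h.trans inf_le_left) hLS)
  · intro h
    rw [h, card_top, hG] at hcM
    omega

theorem not_two_group {K : Type*} [Group K] {r : ℕ} (hr : r.Prime) (hr2 : r ≠ 2) (h : r ∣ Nat.card K)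
    (hK : Nat.card K ≠ 0) : ¬ IsPGroup 2 K := by
  intro h2
  have : Finite K := Nat.finite_of_card_ne_zero hK
  have : Fact (Nat.Prime 2) := ⟨Nat.prime_two⟩
  obtain ⟨k, hk⟩ := IsPGroup.iff_card.1 h2
  rw [hk] at h
  exact hr2 ((Nat.prime_dvd_prime_iff_eq hr Nat.prime_two).1 (hr.dvd_of_dvd_pow h))

/-- irreducibility of `2^11` from the two orbits -/
theorem irr_of_orbits {V : Subgroup G} (hcard : Nat.card V = 2 ^ 11) {z' t : G}
    (hz' : Set.ncard {v : G | ∃ n ∈ normalizer (V : Set G), n * z' * n⁻¹ = v} = 1771)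
    (ht : Set.ncard {v : G | ∃ n ∈ normalizer (V : Set G), n * t * n⁻¹ = v} = 276)
    (hzV : z' ∈ V) (htV : t ∈ V) (ht1 : t ≠ 1) (hconj : ¬ IsConj z' t) (W : Subgroup G) (hW : W ≤ V)
    (hn : normalizer (V : Set G) ≤ normalizer (W : Set G)) : W = ⊥ ∨ W = V := by
  set O₁ : Set G := {v : G | ∃ n ∈ normalizer (V : Set G), n * z' * n⁻¹ = v} with hO₁
  set O₂ : Set G := {v : G | ∃ n ∈ normalizer (V : Set G), n * t * n⁻¹ = v} with hO₂
  have hz1 : z' ≠ 1 := by
    rintro rfl
    have h : O₁ ⊆ {1} := by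
      rintro v ⟨n, -, rfl⟩
      simp
    have := Set.ncard_le_ncard h (Set.finite_singleton _)
    rw [hz', Set.ncard_singleton] at this
    omega
  have hsub : ∀ x : G, (∃ w ∈ W, ∃ n ∈ normalizer (V : Set G), n * x * n⁻¹ = w) → x ∈ W := by
    rintro x ⟨w, hw, n, hnV, rfl⟩
    exact (mem_normalizer_iff.1 (hn hnV) x).2 hw
  have hsub' : ∀ x ∈ W, ∀ n ∈ normalizer (V : Set G), n * x * n⁻¹ ∈ W := fun x hx n hnV =>
    (mem_normalizer_iff.1 (hn hnV) x).1 hx
  have hdisj : Disjoint O₁ O₂ := by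
    rw [Set.disjoint_left]
    rintro v ⟨n, -, h1⟩ ⟨m, -, h2⟩
    apply hconj
    rw [isConj_iff]
    exact ⟨m⁻¹ * n, by rw [show m⁻¹ * n * z' * (m⁻¹ * n)⁻¹ = m⁻¹ * (n * z' * n⁻¹) * m by group, h1, ← h2]; group⟩
  have hVset : (V : Set G) = {1} ∪ (O₁ ∪ O₂) := by
    symm
    apply Set.eq_of_subset_of_ncard_le
    · rintro v (h | ⟨n, hnV, rfl⟩ | ⟨n, hnV, rfl⟩)
      · rw [Set.mem_singleton_iff.1 h]
        exact V.one_mem
      · exact (mem_normalizer_iff.1 hnV z').1 hzV
      · exact (mem_normalizer_iff.1 hnV t).1 htV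
    · have h1 : (V : Set G).ncard = 2 ^ 11 := by
        rw [← hcard]
        exact (Nat.card_coe_set_eq _).symm
      have h0 : Disjoint ({1} : Set G) (O₁ ∪ O₂) := by
        rw [Set.disjoint_singleton_left]
        rintro (⟨n, -, h⟩ | ⟨n, -, h⟩)
        · exact hz1 (conj_eq_one_iff.1 h)
        · exact ht1 (conj_eq_one_iff.1 h)
      rw [h1, Set.ncard_union_eq h0, Set.ncard_union_eq hdisj, hz', ht, Set.ncard_singleton]
      norm_num
    · exact Set.toFinite _
  have hWcard : (W : Set G).ncard = Nat.card W := (Nat.card_coe_set_eq _).symm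
  have hdvd : Nat.card W ∣ 2 ^ 11 := by rw [← hcard]; exact card_dvd_of_le hW
  by_cases h1 : z' ∈ W
  · right
    refine eq_of_le_of_card_ge hW ?_
    have h2 : {1} ∪ O₁ ⊆ (W : Set G) := by
      rintro v (h | ⟨n, hnV, rfl⟩)
      · rw [Set.mem_singleton_iff.1 h]
        exact W.one_mem
      · exact hsub' z' h1 n hnV
    have h3 := Set.ncard_le_ncard h2 (Set.toFinite _)
    have h4 : ({1} ∪ O₁ : Set G).ncard = 1772 := by
      rw [Set.ncard_union_eq, hz', Set.ncard_singleton]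
      rw [Set.disjoint_singleton_left]
      rintro ⟨n, -, h⟩
      exact hz1 (conj_eq_one_iff.1 h)
    rw [h4, hWcard] at h3
    obtain ⟨k, hk, hk'⟩ := (Nat.dvd_prime_pow Nat.prime_two).1 hdvd
    rw [hk'] at h3 ⊢
    rw [hcard]
    have : 11 ≤ k := by
      by_contra hlt
      have : 2 ^ k ≤ 2 ^ 10 := Nat.pow_le_pow_right (by norm_num) (by omega)
      omega
    exact Nat.pow_le_pow_right (by norm_num) this
  · by_cases h2 : t ∈ W
    · exfalso
      have h3 : (W : Set G) = {1} ∪ O₂ := by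
        apply Set.Subset.antisymm
        · intro v hv
          have h5 : v ∈ (V : Set G) := hW hv
          rw [hVset] at h5
          rcases h5 with h | ⟨n, hnV, rfl⟩ | h
          · exact Or.inl h
          · exact absurd (hsub z' ⟨_, hv, n, hnV, rfl⟩) h1
          · exact Or.inr h
        · rintro v (h | ⟨n, hnV, rfl⟩)
          · rw [Set.mem_singleton_iff.1 h]
            exact W.one_mem
          · exact hsub' t h2 n hnV
      have h4 : Nat.card W = 277 := by
        rw [← hWcard, h3, Set.ncard_union_eq, ht, Set.ncard_singleton]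
        rw [Set.disjoint_singleton_left]
        rintro ⟨n, -, h⟩
        exact ht1 (conj_eq_one_iff.1 h)
      rw [h4] at hdvd
      revert hdvd
      norm_num
    · left
      rw [eq_bot_iff]
      intro v hv
      have h5 : v ∈ (V : Set G) := hW hv
      rw [hVset] at h5
      rcases h5 with h | ⟨n, hnV, rfl⟩ | ⟨n, hnV, rfl⟩
      · exact h
      · exact absurd (hsub z' ⟨_, hv, n, hnV, rfl⟩) h1
      · exact absurd (hsub t ⟨_, hv, n, hnV, rfl⟩) h2

/-- **`N(2^11)` is maximal**, from S5567 and S5568. -/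
theorem case_V (T : OrderTable.{u})
    (hS : ∀ (X : Type u) [Group X] [Finite X] [IsSimpleGroup X], IsKnownSimple' X)
    (hG : Nat.card G = NN) {V : Subgroup G} (hV : IsElementaryAbelian 2 V) (hcard : Nat.card V = 2 ^ 11)
    (h67 : centralizer (V : Set G) ≤ V ∧ ∃ K : Subgroup G, K ≤ normalizer (V : Set G) ∧ K ⊓ V = ⊥ ∧
      K ⊔ V = normalizer (V : Set G) ∧ Cfsg.Spor.IsoM24 ↥K) {z : G}
    (h68 : ∃ z' t : G, z' ∈ V ∧ t ∈ V ∧ t ≠ 1 ∧ IsConj z z' ∧ ¬ IsConj z t ∧
      Set.ncard {v : G | ∃ n ∈ normalizer (V : Set G), n * z' * n⁻¹ = v} = 1771 ∧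
      Set.ncard {v : G | ∃ n ∈ normalizer (V : Set G), n * t * n⁻¹ = v} = 276 ∧
      centralizer ({t} : Set G) ≤ normalizer (V : Set G)) : IsCoatom (normalizer (V : Set G)) := by
  obtain ⟨hC, K, hK, hKV, hsup, ⟨e⟩⟩ := h67
  obtain ⟨z', t, hz', ht, ht1, h1, h2, h3, h4, -⟩ := h68
  have hM : IsSimpleGroup Cfsg.M24 := S0365.result
  have hcK : Nat.card K = 244823040 := (Nat.card_congr e.toEquiv).trans SporadicA.M24Trans.card_M24
  refine isCoatom_elem T hS hG hV (by rw [hcard]; norm_num) hC (irr_of_orbits hcard h3 h4 hz' ht ht1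
    (fun h => h2 (h1.trans h))) hK hKV hsup e.isSimpleGroup
    (not_two_group Nat.prime_three (by norm_num) (by rw [hcK]; norm_num) (by rw [hcK]; norm_num))
    (Or.inl (by rw [hcard])) (by rw [hcard, hcK]; norm_num)

/-- **`N(2^10)` is maximal**, from S5570. -/
theorem case_A (T : OrderTable.{u})
    (hS : ∀ (X : Type u) [Group X] [Finite X] [IsSimpleGroup X], IsKnownSimple' X)
    (hG : Nat.card G = NN) {A : Subgroup G} (hA : IsElementaryAbelian 2 A) (hcard : Nat.card A = 2 ^ 10)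
    (hself : centralizer (A : Set G) = A)
    (h70 : (∃ B : Subgroup G, B ≤ normalizer (A : Set G) ∧ B ⊓ A = ⊥ ∧ B ⊔ A = normalizer (A : Set G) ∧
      Nonempty (↥B ≃* Matrix.SpecialLinearGroup (Fin 5) (ZMod 2))) ∧
      ∀ W : Subgroup G, W ≤ A → normalizer (A : Set G) ≤ normalizer (W : Set G) → W = ⊥ ∨ W = A) :
    IsCoatom (normalizer (A : Set G)) := by
  obtain ⟨⟨K, hK, hKV, hsup, ⟨e⟩⟩, hirr⟩ := h70
  have hM : IsSimpleGroup (Matrix.SpecialLinearGroup (Fin 5) (ZMod 2)) := SLTwo.simple 5 (by norm_num)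
  have hcK : Nat.card K = 9999360 := (Nat.card_congr e.toEquiv).trans SLTwo.card_five
  refine isCoatom_elem T hS hG hA (by rw [hcard]; norm_num) hself.le hirr hK hKV hsup e.isSimpleGroup
    (not_two_group Nat.prime_three (by norm_num) (by rw [hcK]; norm_num) (by rw [hcK]; norm_num))
    (Or.inr (by rw [hcard, hcK]; norm_num)) (by rw [hcard, hcK]; norm_num)

end Cfsg.Agent.H821.J4MaxA
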