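import Cfsg.Agent.H821.J4MaxA
import Cfsg.Agent.H821.FixCard
import Cfsg.Agent.H856.ToHyp
import Cfsg.Agent.Lib.SolvableNormalP

/-!
# The centraliser of a central involution of `J4` is maximal (helper821)
-/

set_option autoImplicit false
set_option linter.unusedSectionVars false

namespace Cfsg.Agent.H821.J4MaxB

open Subgroup Cfsg Cfsg.Agent.OrdDiv Cfsg.Agent.H821 Cfsg.Agent.J4Type
open Cfsg.Agent.H821.J4Orders (NN)
open scoped commutatorElement

universe u

section

variable {G : Type u} [Group G] [Finite G] {z : G} {Q N M : Subgroup (centralizer ({z} : Set G))}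

/-- the elements of `C` which centralise `X` modulo `Y` -/
def DD {C : Type*} [Group C] (X Y : Subgroup C) [Y.Normal] : Subgroup C :=
  (centralizer ((X.map (QuotientGroup.mk' Y) : Subgroup (C ⧸ Y)) : Set (C ⧸ Y))).comap (QuotientGroup.mk' Y)

theorem DD_normal {C : Type*} [Group C] (X Y : Subgroup C) [X.Normal] [Y.Normal] : (DD X Y).Normal := by
  have h1 : (X.map (QuotientGroup.mk' Y)).Normal := Subgroup.Normal.map inferInstance _ (QuotientGroup.mk'_surjective Y)
  have h2 : (centralizer ((X.map (QuotientGroup.mk' Y) : Subgroup (C ⧸ Y)) : Set (C ⧸ Y))).Normal := inferInstance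
  exact h2.comap _

theorem mem_DD {C : Type*} [Group C] {X Y : Subgroup C} [Y.Normal] {c : C} :
    c ∈ DD X Y ↔ ∀ w ∈ X, w⁻¹ * (c * w * c⁻¹) ∈ Y := by
  rw [DD, mem_comap, mem_centralizer_iff]
  constructor
  · intro h w hw
    have h1 := h (QuotientGroup.mk' Y w) ⟨w, hw, rfl⟩
    rw [← QuotientGroup.eq_one_iff]
    show QuotientGroup.mk' Y _ = 1
    rw [map_mul, map_mul, map_mul, map_inv, map_inv, ← h1]
    group
  · rintro h _ ⟨w, hw, rfl⟩
    have h1 := h w hw
    rw [← QuotientGroup.eq_one_iff] at h1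
    have h2 : QuotientGroup.mk' Y (w⁻¹ * (c * w * c⁻¹)) = 1 := h1
    rw [map_mul, map_mul, map_mul, map_inv, map_inv] at h2
    have h3 : QuotientGroup.mk' Y c * QuotientGroup.mk' Y w * (QuotientGroup.mk' Y c)⁻¹ = QuotientGroup.mk' Y w :=
      (inv_mul_eq_one.1 h2).symm
    exact (mul_inv_eq_iff_eq_mul.1 h3).symm

theorem pow_arith : ∀ i < 10, ∀ j ≤ i, 2 ^ i ≡ 2 ^ j [MOD 11] → i = j := by decide

/-- an element of order 11 acts trivially on small sections -/
theorem mem_DD_of_eleven {C : Type*} [Group C] [Finite C] {X Y : Subgroup C} [X.Normal] [Y.Normal] (hYX : Y ≤ X)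
    {a b : ℕ} (hX : Nat.card X = 2 ^ a) (hY : Nat.card Y = 2 ^ b) (hab : a < b + 10) {x : C}
    (hx : x ^ 11 = 1) : x ∈ DD X Y := by
  have : Fact (Nat.Prime 11) := ⟨by norm_num⟩
  set X' := X.map (QuotientGroup.mk' Y) with hX'
  have h1 : X'.Normal := Subgroup.Normal.map inferInstance _ (QuotientGroup.mk'_surjective Y)
  set P := zpowers (QuotientGroup.mk' Y x) with hP
  have hPp : IsPGroup 11 P := by
    have h2 : orderOf (QuotientGroup.mk' Y x) ∣ 11 ^ 1 := by
      rw [pow_one]
      exact orderOf_dvd_of_pow_eq_one (by rw [← map_pow, hx, map_one])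
    exact IsPGroup.of_card_dvd_pow (n := 1) (by rw [hP, Nat.card_zpowers]; exact h2)
  have hmod := FixCard.card_modEq (N := X') hPp (by rw [normalizer_eq_top X']; exact le_top)
  have hcard : Nat.card X' * 2 ^ b = 2 ^ a := by
    have h3 := Cfsg.Agent.Lib.SolvableNormalP.card_comap_mk Y X'
    have h4 : X'.comap (QuotientGroup.mk' Y) = X :=
      comap_map_eq_self (by rw [QuotientGroup.ker_mk']; exact hYX)
    rw [h4, hX, hY] at h3
    exact h3.symm
  have hX'2 : Nat.card X' ∣ 2 ^ a := Dvd.intro _ hcard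
  obtain ⟨i, hi, hi'⟩ := (Nat.dvd_prime_pow Nat.prime_two).1 hX'2
  have hI : Nat.card (X' ⊓ centralizer (P : Set (C ⧸ Y)) : Subgroup (C ⧸ Y)) ∣ 2 ^ i := by
    rw [← hi']
    exact card_dvd_of_le inf_le_left
  obtain ⟨j, hj, hj'⟩ := (Nat.dvd_prime_pow Nat.prime_two).1 hI
  rw [hi', hj'] at hmod
  have hia : i + b = a := by
    rw [hi', ← pow_add] at hcard
    exact Nat.pow_right_injective le_rfl hcard
  have hij : i = j := pow_arith i (by omega) j hj hmod
  have hle : X' ≤ centralizer (P : Set (C ⧸ Y)) := by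
    have h5 : X' ⊓ centralizer (P : Set (C ⧸ Y)) = X' :=
      eq_of_le_of_card_ge inf_le_left (by rw [hi', hj', hij])
    exact inf_eq_left.1 h5
  rw [DD, mem_comap]
  rw [le_centralizer_iff] at hle
  exact hle (mem_zpowers _)

/-- an invariant section centralised by an element of order 11 of `M` is trivial -/
theorem section_trivial (H : Hyp z Q N M) {P : Subgroup (centralizer ({z} : Set G))} (hPN : P ≤ N)
    (hP3 : IsPGroup 3 P) (hfix : ∀ q ∈ Q, (∀ p ∈ P, p * q = q * p) → q = 1 ∨ q = tC z)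
    {X Y : Subgroup (centralizer ({z} : Set G))} [X.Normal] [Y.Normal] (hYX : Y ≤ X) (hXQ : X ≤ Q)
    (hzY : tC z ∈ Y) {x : centralizer ({z} : Set G)} (hxM : x ∈ M) (hxN : x ∉ N) (hx : x ∈ DD X Y) : X ≤ Y := by
  have := H.Qn
  have := H.Nn
  have := H.Mn
  have hDn := DD_normal X Y
  set D := DD X Y with hD
  have hM22 : IsSimpleGroup Cfsg.Spor.M22 := Cfsg.Agent.SporadicA.MathieuRecog.simple_M22
  obtain ⟨π, hπ, hker⟩ := H.pi
  -- `Q ≤ D`
  have hQD : Q ≤ D := by
    intro q hq
    rw [hD, mem_DD]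
    intro w hw
    have h1 := H.mem_center (H.comm_mem ⟨w, hXQ hw⟩⁻¹ ⟨q, hq⟩)
    have h2 : ((⁅(⟨w, hXQ hw⟩ : Q)⁻¹, ⟨q, hq⟩⁆ : Q) : centralizer ({z} : Set G)) = w⁻¹ * (q * w * q⁻¹) := by
      rw [commutatorElement_def]
      show w⁻¹ * q * (w⁻¹)⁻¹ * q⁻¹ = _
      group
    rw [h2] at h1
    rcases h1 with h1 | h1
    · rw [h1]; exact Y.one_mem
    · rw [h1]; exact hzY
  -- `M ≤ N D`
  have hMND : ∀ m ∈ M, ∃ n ∈ N, ∃ d ∈ D, m = n * d := by
    have hn : ((D.subgroupOf M).map π).Normal := Subgroup.Normal.map inferInstance _ hπ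
    rcases hn.eq_bot_or_eq_top with h | h
    · exfalso
      apply hxN
      rw [← hker ⟨x, hxM⟩]
      have h1 : π ⟨x, hxM⟩ ∈ (D.subgroupOf M).map π := ⟨_, hx, rfl⟩
      rw [h, mem_bot] at h1
      exact h1
    · intro m hm
      have h1 : π ⟨m, hm⟩ ∈ (D.subgroupOf M).map π := by rw [h]; exact mem_top _
      obtain ⟨d, hd, hde⟩ := h1
      refine ⟨m * (d : centralizer ({z} : Set G))⁻¹, ?_, d, hd, by rw [inv_mul_cancel_right]⟩
      have h2 : π (⟨m, hm⟩ * d⁻¹) = 1 := by rw [map_mul, map_inv, hde, mul_inv_cancel]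
      exact (hker _).1 h2
  have hMD : M ≤ D := by
    have h1 : ⁅M, M⁆ ≤ D := by
      rw [commutator_le]
      intro a ha b hb
      obtain ⟨n, hn, d, hd, rfl⟩ := hMND a ha
      have h2 : ⁅b, n⁆ ∈ D := hQD (H.cent (commutator_mem_commutator hb hn))
      have h3 : ⁅n * d, b⁆ = n * (d * (b * d⁻¹ * b⁻¹)) * n⁻¹ * ⁅b, n⁆⁻¹ := by
        rw [commutatorElement_def, commutatorElement_def]; group
      rw [h3]
      exact D.mul_mem (hDn.conj_mem _ (D.mul_mem hd (hDn.conj_mem _ (D.inv_mem hd) b)) n) (D.inv_mem h2)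
    exact H.perf.trans (sup_le h1 hQD)
  have hPD : P ≤ D := (hPN.trans H.NM).trans hMD
  intro w hw
  have : Fact (Nat.Prime 3) := ⟨Nat.prime_three⟩
  have hYcard : Nat.card Y ∣ 2 ^ 13 := by rw [← H.card_Q]; exact card_dvd_of_le (hYX.trans hXQ)
  have h3Y : ¬ 3 ∣ Nat.card Y := by
    intro h
    have := h.trans hYcard
    revert this
    norm_num
  obtain ⟨y, hy, hyP⟩ := FixCard.exists_fixed (Y := Y) (P := P) hP3 (by rw [normalizer_eq_top Y]; exact le_top) h3Y
    (w := w) (fun p hp => mem_DD.1 (hPD hp) w hw)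
  have h5 := hfix (w * y) (hXQ (X.mul_mem hw (hYX hy))) hyP
  have h6 : w * y ∈ Y := by
    rcases h5 with h | h
    · rw [h]; exact Y.one_mem
    · rw [h]; exact hzY
  have h7 := Y.mul_mem h6 (Y.inv_mem hy)
  rwa [mul_inv_cancel_right] at h7

/-- `C / Q` acts irreducibly on `Q / ⟨z⟩` -/
theorem irreducible (H : Hyp z Q N M) {P : Subgroup (centralizer ({z} : Set G))} (hPN : P ≤ N)
    (hP3 : IsPGroup 3 P) (hfix : ∀ q ∈ Q, (∀ p ∈ P, p * q = q * p) → q = 1 ∨ q = tC z)
    (W : Subgroup (centralizer ({z} : Set G))) [hWn : W.Normal] (hWQ : W ≤ Q) :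
    W = ⊥ ∨ W = zpowers (tC z) ∨ W = Q := by
  have := H.Qn
  have := H.Nn
  have := H.Mn
  have : Fact (Nat.Prime 2) := ⟨Nat.prime_two⟩
  have : Fact (Nat.Prime 11) := ⟨by norm_num⟩
  by_cases hW1 : W = ⊥
  · exact Or.inl hW1
  right
  have hQp : IsPGroup 2 Q := IsPGroup.of_card H.card_Q
  have hWd : Nat.card W ∣ 2 ^ 13 := by rw [← H.card_Q]; exact card_dvd_of_le hWQ
  obtain ⟨k, hk, hk'⟩ := (Nat.dvd_prime_pow Nat.prime_two).1 hWd
  have hk0 : k ≠ 0 := by
    rintro rfl
    exact hW1 (Subgroup.card_eq_one.1 hk')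
  -- `z ∈ W`
  have hzW : tC z ∈ W := by
    have h1 := FixCard.card_modEq (N := W) hQp (by rw [normalizer_eq_top W]; exact le_top)
    have h2 : W ⊓ centralizer (Q : Set (centralizer ({z} : Set G))) ≠ ⊥ := by
      intro h
      rw [h, card_bot, hk'] at h1
      have h3 : 2 ∣ 2 ^ k := dvd_pow_self 2 hk0
      have h4 := (Nat.modEq_zero_iff_dvd.2 h3).symm.trans h1
      exact absurd h4 (by decide)
    obtain ⟨⟨w, hw⟩, hw1⟩ := (ne_bot_iff_exists_ne_one).1 h2
    obtain ⟨hw2, hw3⟩ := mem_inf.1 hw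
    have hwc : (⟨w, hWQ hw2⟩ : Q) ∈ Subgroup.center Q := by
      rw [Subgroup.mem_center_iff]
      intro y
      exact Subtype.ext ((mem_centralizer_iff.1 hw3) y y.2)
    rcases H.mem_center hwc with h | h
    · exact absurd (Subtype.ext h) hw1
    · have h' : w = tC z := h
      rw [← h']
      exact hw2
  have hzn : (zpowers (tC z)).Normal := by
    refine ⟨fun n hn g => ?_⟩
    obtain ⟨i, rfl⟩ := hn
    have h1 : g * (tC z) ^ i * g⁻¹ = (tC z) ^ i := by
      have h2 : Commute g (tC z) := tC_comm g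
      rw [(h2.zpow_right i).eq, mul_inv_cancel_right]
    show g * (tC z) ^ i * g⁻¹ ∈ _
    rw [h1]
    exact zpow_mem (mem_zpowers _) i
  have hzc : Nat.card (zpowers (tC z)) = 2 ^ 1 := by
    rw [Nat.card_zpowers, pow_one, ← Subgroup.orderOf_coe]
    exact H.ht
  -- an element of order 11
  obtain ⟨π, hπ, hker⟩ := H.pi
  obtain ⟨x, hx⟩ : ∃ x : M, orderOf x = 11 := by
    refine exists_prime_orderOf_dvd_card' 11 ?_
    have h1 : Nat.card Cfsg.Spor.M22 ∣ Nat.card M := Subgroup.card_dvd_of_surjective π hπ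
    rw [Cfsg.Agent.SporadicA.MathieuRecog.card_M22] at h1
    exact Dvd.dvd.trans (by norm_num) h1
  have hx11 : (x : centralizer ({z} : Set G)) ^ 11 = 1 := by
    have h1 : x ^ 11 = 1 := by rw [← hx]; exact pow_orderOf_eq_one x
    exact congrArg Subtype.val h1
  have hxN : (x : centralizer ({z} : Set G)) ∉ N := by
    intro h
    have h1 := orderOf_dvd_natCard (⟨x, h⟩ : N)
    rw [← Subgroup.orderOf_coe] at h1
    have h2 : orderOf (x : centralizer ({z} : Set G)) = 11 := by rw [Subgroup.orderOf_coe]; exact hx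
    have h3 : orderOf (((⟨x, h⟩ : N) : centralizer ({z} : Set G))) = 11 := h2
    rw [h3, H.card_N, H.card_Q] at h1
    revert h1
    norm_num
  by_cases hk10 : k ≤ 10
  · left
    have h1 : zpowers (tC z) ≤ W := by rw [zpowers_le]; exact hzW
    refine le_antisymm ?_ h1
    exact section_trivial H hPN hP3 hfix h1 hWQ (mem_zpowers _) x.2 hxN
      (mem_DD_of_eleven h1 hk' hzc (by omega) hx11)
  · right
    refine le_antisymm hWQ ?_
    exact section_trivial H hPN hP3 hfix hWQ le_rfl hzW x.2 hxN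
      (mem_DD_of_eleven hWQ H.card_Q hk' (by omega) hx11)

end

/-! ### The centraliser -/

variable {G : Type u} [Group G] [Finite G] {z : G}

theorem mem_zpowers_two {K : Type*} [Group K] {t : K} (ht : t * t = 1) {x : K} (hx : x ∈ zpowers t) : x = 1 ∨ x = t := by
  obtain ⟨i, rfl⟩ := hx
  have h2 : t ^ (2 : ℤ) = 1 := by rw [show (2 : ℤ) = ((2 : ℕ) : ℤ) from rfl, zpow_natCast, pow_two, ht]
  have h7 : t ^ i = t ^ (i % 2) := by
    conv_lhs => rw [← Int.emod_add_mul_ediv i 2, zpow_add, zpow_mul, h2, one_zpow, mul_one]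
  have h8 : i % 2 = 0 ∨ i % 2 = 1 := by omega
  show t ^ i = 1 ∨ t ^ i = t
  rcases h8 with h8 | h8
  · left; rw [h7, h8, zpow_zero]
  · right; rw [h7, h8, zpow_one]

/-- the structure of the centraliser of `z`, as used for the maximality -/
structure Facts (z : G) (L : Subgroup G) : Prop where
  zz : z * z = 1
  z_ne : z ≠ 1
  card : Nat.card L = 2 ^ 13
  mem : z ∈ L
  norm : normalizer (L : Set G) = centralizer ({z} : Set G)
  cent : centralizer (L : Set G) ≤ L
  zcent : centralizer (L : Set G) ≤ zpowers z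
  meet : ∀ W ≤ L, W ≠ ⊥ → L ≤ normalizer (W : Set G) → z ∈ W
  irr : ∀ W ≤ L, normalizer (L : Set G) ≤ normalizer (W : Set G) → W = ⊥ ∨ W = zpowers z ∨ W = L
  core : ∀ W ≤ normalizer (L : Set G), normalizer (L : Set G) ≤ normalizer (W : Set G) → IsPGroup 2 W → W ≤ L
  plus : ∃ A ≤ L, (∀ a ∈ A, a * a = 1) ∧ Nat.card A = 2 ^ 7
  card_cent : Nat.card (centralizer ({z} : Set G)) = 2 ^ 21 * 3 ^ 3 * 5 * 7 * 11

theorem card_preimage {C K : Type*} [Group C] [Finite C] [Group K] (π : C →* K) (hπ : Function.Surjective π)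
    (N : Subgroup C) (hN : ∀ c, π c = 1 ↔ c ∈ N) : Nat.card C = Nat.card N * Nat.card K := by
  have h1 : π.ker = N := by
    ext c
    exact (MonoidHom.mem_ker).trans (hN c)
  rw [← h1, ← π.ker.card_mul_index, Subgroup.index_ker, MonoidHom.range_eq_top.2 hπ, card_top]

theorem facts (hJ : IsOfJankoFourTypeAt z) : Facts z (twoCoreOfCentralizer z) := by
  obtain ⟨P, hP⟩ := hJ
  obtain ⟨Q, N, M, H, hQL, hPN⟩ := Cfsg.Agent.H856.ToHyp.exists_hyp hP
  obtain ⟨-, -, hcard, hself, ⟨-, -, hNC, -, -, -, -⟩, hP3, hfix, -, -⟩ := id hP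
  set L := twoCoreOfCentralizer z with hL
  have hLC : L ≤ (centralizer ({z} : Set G)) := by
    rw [← hQL]
    rintro _ ⟨x, -, rfl⟩
    exact x.2
  have hQn := H.Qn
  have hzz := H.tt
  have hzL : z ∈ L := by rw [← hQL]; exact ⟨tC z, H.tC_mem, rfl⟩
  have hmemQ : ∀ x : (centralizer ({z} : Set G)), x ∈ Q ↔ (x : G) ∈ L := by
    intro x
    rw [← hQL]
    constructor
    · intro h; exact ⟨x, h, rfl⟩
    · rintro ⟨y, hy, hyx⟩
      rwa [← (Subtype.ext hyx : y = x)]
  have hLQ : L.subgroupOf (centralizer ({z} : Set G)) = Q := by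
    ext x
    rw [mem_subgroupOf, hmemQ]
  have : Fact (Nat.Prime 2) := ⟨Nat.prime_two⟩
  have hLp : IsPGroup 2 L := IsPGroup.of_card hcard
  -- the centraliser of `L` is `⟨z⟩`
  have hcL : centralizer (L : Set G) ≤ L := by
    refine le_trans (le_inf ?_ le_rfl) hself
    intro x hx
    rw [mem_centralizer_singleton_iff]
    exact (mem_centralizer_iff.1 hx z hzL).symm
  have hzcL : ∀ x ∈ centralizer (L : Set G), x = 1 ∨ x = z := by
    intro x hx
    have hxL := hcL hx
    have hxQ := (hmemQ ⟨x, hLC hxL⟩).2 hxL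
    have hwc : (⟨⟨x, hLC hxL⟩, hxQ⟩ : Q) ∈ Subgroup.center Q := by
      rw [Subgroup.mem_center_iff]
      intro y
      apply Subtype.ext
      apply Subtype.ext
      exact (mem_centralizer_iff.1 hx) _ ((hmemQ y).1 y.2)
    rcases H.mem_center hwc with h | h
    · left; exact congrArg Subtype.val h
    · right; exact congrArg Subtype.val h
  have hnorm : normalizer (L : Set G) = (centralizer ({z} : Set G)) := by
    apply le_antisymm
    · intro g hg
      rw [mem_centralizer_singleton_iff]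
      have h1 : g * z * g⁻¹ ∈ centralizer (L : Set G) := by
        rw [mem_centralizer_iff]
        intro y hy
        have h2 : g⁻¹ * y * g ∈ L := by
          have := (mem_normalizer_iff.1 ((normalizer (L : Set G)).inv_mem hg) y).1 hy
          rwa [inv_inv] at this
        have h3 : (g⁻¹ * y * g) * z = z * (g⁻¹ * y * g) := mem_centralizer_singleton_iff.1 (hLC h2)
        have h4 : y * (g * z * g⁻¹) = g * ((g⁻¹ * y * g) * z) * g⁻¹ := by group
        have h5 : g * z * g⁻¹ * y = g * (z * (g⁻¹ * y * g)) * g⁻¹ := by group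
        rw [h4, h5, h3]
      rcases hzcL _ h1 with h | h
      · exact absurd (conj_eq_one_iff.1 h) H.t_ne
      · exact mul_inv_eq_iff_eq_mul.1 h
    · refine RankAct.le_normalizer_of_forall fun f hf w hw => ?_
      have h1 := hQn.conj_mem ⟨w, hLC hw⟩ ((hmemQ _).2 hw) ⟨f, hf⟩
      exact (hmemQ _).1 h1
  have hP' : P.subgroupOf (centralizer ({z} : Set G)) ≤ N := by
    intro x hx
    obtain ⟨y, hy, hyx⟩ := hPN (mem_subgroupOf.1 hx)
    rwa [← (Subtype.ext hyx : y = x)]
  have hPC : P ≤ (centralizer ({z} : Set G)) := by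
    intro x hx
    obtain ⟨y, -, rfl⟩ := hPN hx
    exact y.2
  have hP3' : IsPGroup 3 (P.subgroupOf (centralizer ({z} : Set G))) := by
    refine IsPGroup.of_card (n := 1) ?_
    rw [Nat.card_congr (subgroupOfEquivOfLe hPC).toEquiv, hP3, pow_one]
  have hfix' : ∀ q ∈ Q, (∀ p ∈ P.subgroupOf (centralizer ({z} : Set G)), p * q = q * p) → q = 1 ∨ q = tC z := by
    intro q hq h
    have h1 : (q : G) ∈ L ⊓ centralizer (P : Set G) := by
      refine mem_inf.2 ⟨(hmemQ q).1 hq, ?_⟩
      rw [mem_centralizer_iff]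
      intro p hp
      exact congrArg Subtype.val (h ⟨p, hPC hp⟩ (mem_subgroupOf.2 hp))
    rw [hfix] at h1
    rcases mem_zpowers_two hzz h1 with h2 | h2
    · left; exact Subtype.ext h2
    · right; exact Subtype.ext h2
  refine ⟨hzz, H.t_ne, hcard, hzL, hnorm, hcL, ?_, ?_, ?_, ?_, ?_, ?_⟩
  · intro x hx
    rcases hzcL x hx with rfl | rfl
    · exact one_mem _
    · exact mem_zpowers _
  · intro W hW hW1 hn
    have h1 := FixCard.card_modEq (N := W) hLp hn
    have h2 : W ⊓ centralizer (L : Set G) ≠ ⊥ := by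
      intro h
      have hd : Nat.card W ∣ 2 ^ 13 := by rw [← hcard]; exact card_dvd_of_le hW
      obtain ⟨k, hk, hk'⟩ := (Nat.dvd_prime_pow Nat.prime_two).1 hd
      have hk0 : k ≠ 0 := by
        rintro rfl
        exact hW1 (Subgroup.card_eq_one.1 hk')
      rw [h, card_bot, hk'] at h1
      have h3 : 2 ∣ 2 ^ k := dvd_pow_self 2 hk0
      have h4 := (Nat.modEq_zero_iff_dvd.2 h3).symm.trans h1
      exact absurd h4 (by decide)
    obtain ⟨⟨w, hw⟩, hw1⟩ := (ne_bot_iff_exists_ne_one).1 h2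
    obtain ⟨hw2, hw3⟩ := mem_inf.1 hw
    rcases hzcL w hw3 with h | h
    · exact absurd (Subtype.ext h) hw1
    · rw [← h]; exact hw2
  · intro W hW hn
    have hWC := hW.trans hLC
    have hWn : (W.subgroupOf (centralizer ({z} : Set G))).Normal := by
      rw [normal_subgroupOf_iff_le_normalizer hWC, ← hnorm]
      exact hn
    have key : ∀ {A B : Subgroup G}, A ≤ (centralizer ({z} : Set G)) → B ≤ (centralizer ({z} : Set G)) → A.subgroupOf (centralizer ({z} : Set G)) = B.subgroupOf (centralizer ({z} : Set G)) → A = B := by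
      intro A B hA hB h
      have := congrArg (map (centralizer ({z} : Set G)).subtype) h
      rwa [TwoLocalCoatom.map_subgroupOf hA, TwoLocalCoatom.map_subgroupOf hB] at this
    have hzpC : zpowers z ≤ (centralizer ({z} : Set G)) := by
      rw [zpowers_le, mem_centralizer_singleton_iff]
    rcases irreducible H hP' hP3' hfix' (W.subgroupOf (centralizer ({z} : Set G)))
      (by rw [← hLQ]; exact fun x hx => mem_subgroupOf.2 (hW (mem_subgroupOf.1 hx))) with h | h | h
    · left
      exact key hWC bot_le (by rw [h, bot_subgroupOf])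
    · right; left
      refine key hWC hzpC ?_
      rw [h]
      ext x
      rw [mem_subgroupOf]
      constructor
      · rintro ⟨i, rfl⟩
        exact ⟨i, rfl⟩
      · rintro ⟨i, hi⟩
        exact ⟨i, Subtype.ext hi⟩
    · right; right
      exact key hWC hLC (by rw [h, hLQ])
  · intro W hW hn hW2
    rw [hnorm] at hW hn
    have hWn : (W.subgroupOf (centralizer ({z} : Set G))).Normal := by
      rw [normal_subgroupOf_iff_le_normalizer hW]
      exact hn
    have h1 := Cfsg.Agent.Lib.Cores.le_pCore hWn (hW2.comap_of_injective (centralizer ({z} : Set G)).subtype (centralizer ({z} : Set G)).subtype_injective)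
    intro x hx
    exact ⟨⟨x, hW hx⟩, h1 (mem_subgroupOf.2 hx), rfl⟩
  · obtain ⟨E, hE, hEc⟩ := H.plus
    refine ⟨(E.map Q.subtype).map (centralizer ({z} : Set G)).subtype, ?_, ?_, ?_⟩
    · rw [← hQL]
      refine map_mono ?_
      rintro _ ⟨x, -, rfl⟩
      exact x.2
    · rintro _ ⟨_, ⟨x, hx, rfl⟩, rfl⟩
      have h1 := J4MaxA.elem_sq hE x hx
      exact congrArg (fun y : Q => ((y : (centralizer ({z} : Set G))) : G)) h1
    · rw [← hEc, ← Nat.card_congr ((E.map Q.subtype).equivMapOfInjective (centralizer ({z} : Set G)).subtype (centralizer ({z} : Set G)).subtype_injective).toEquiv,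
        ← Nat.card_congr (E.equivMapOfInjective Q.subtype Q.subtype_injective).toEquiv]
  · obtain ⟨π, hπ, hker⟩ := H.pi
    have h1 : Nat.card M = Nat.card (N.subgroupOf M) * Nat.card Cfsg.Spor.M22 :=
      card_preimage π hπ (N.subgroupOf M) (fun c => by rw [mem_subgroupOf]; exact hker c)
    rw [Nat.card_congr (subgroupOfEquivOfLe H.NM).toEquiv, H.card_N, H.card_Q,
      Cfsg.Agent.SporadicA.MathieuRecog.card_M22] at h1
    have h2 := M.card_mul_index
    rw [H.index_M, h1] at h2
    rw [← h2]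
    norm_num

/-- the normaliser of `⟨z⟩` -/
theorem normalizer_zpowers {K : Type*} [Group K] {t : K} (ht : t * t = 1) (ht1 : t ≠ 1) :
    normalizer ((zpowers t : Subgroup K) : Set K) = centralizer ({t} : Set K) := by
  ext g
  rw [mem_centralizer_singleton_iff]
  constructor
  · intro hg
    have h1 := (mem_normalizer_iff.1 hg t).1 (mem_zpowers t)
    rcases mem_zpowers_two ht h1 with h | h
    · exact absurd (conj_eq_one_iff.1 h) ht1
    · exact mul_inv_eq_iff_eq_mul.1 h
  · intro hg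
    have hc : ∀ i : ℤ, g * t ^ i * g⁻¹ = t ^ i := by
      intro i
      have h2 : Commute g t := hg
      rw [(h2.zpow_right i).eq, mul_inv_cancel_right]
    rw [mem_normalizer_iff]
    intro h
    constructor
    · rintro ⟨i, rfl⟩
      exact ⟨i, (hc i).symm⟩
    · rintro ⟨i, hi⟩
      have h3 : h = g⁻¹ * t ^ i * g := by
        have h4 : t ^ i = g * h * g⁻¹ := hi
        rw [h4]; group
      have h5 : g⁻¹ * t ^ i * g = t ^ i := by
        conv_lhs => rw [← hc i]
        group
      rw [h3, h5]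
      exact zpow_mem (mem_zpowers t) i

/-- **`C(z)` is maximal.** -/
theorem case_z [IsSimpleGroup G] (T : OrderTable.{u})
    (hS : ∀ (X : Type u) [Group X] [Finite X] [IsSimpleGroup X], IsKnownSimple' X)
    (hG : Nat.card G = NN) {L : Subgroup G} (F : Facts z L) : IsCoatom (centralizer ({z} : Set G)) := by
  have : Fact (Nat.Prime 2) := ⟨Nat.prime_two⟩
  have hLp : IsPGroup 2 L := IsPGroup.of_card F.card
  have hL1 : L ≠ ⊥ := by
    intro h
    have := F.card
    rw [h, card_bot] at this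
    norm_num at this
  have hzL : zpowers z ≤ L := by rw [zpowers_le]; exact F.mem
  rw [← F.norm]
  refine J4MaxA.isCoatom_of T hS hG hLp hL1 hzL ?_ F.irr ?_ F.core F.cent (Or.inr ?_) ?_ ?_ ?_
  · rintro _ ⟨i, rfl⟩ _ ⟨j, rfl⟩
    exact (Commute.zpow_zpow (Commute.refl z) i j).eq
  · intro _
    rw [F.norm, normalizer_zpowers F.zz F.z_ne]
  · intro W hW hn hcomm
    refine F.core W hW hn ?_
    -- squares of elements of `W` centralise `L`
    have hsq : ∀ w ∈ W, w * w ∈ L := by
      intro w hw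
      apply F.cent
      rw [mem_centralizer_iff]
      intro x hx
      have h1 : ⁅w, x⁆ ∈ zpowers z := hcomm (commutator_mem_commutator hw hx)
      have hwz : w * z = z * w := by
        have := hW hw
        rw [F.norm] at this
        exact mem_centralizer_singleton_iff.1 this
      rcases mem_zpowers_two F.zz h1 with h | h
      · have h2 : w * x = x * w := commutatorElement_eq_one_iff_mul_comm.1 h
        have h3 : Commute x w := h2.symm
        exact (h3.mul_right h3).eq
      · rw [commutatorElement_def] at h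
        have h2 : w * x = z * x * w := by
          rw [mul_inv_eq_iff_eq_mul, mul_inv_eq_iff_eq_mul] at h
          exact h
        have h3 : w * w * x = x * (w * w) := by
          calc w * w * x = w * (w * x) := mul_assoc _ _ _
            _ = w * (z * x * w) := by rw [h2]
            _ = (w * z) * (x * w) := by group
            _ = z * (w * x) * w := by rw [hwz]; group
            _ = z * (z * x * w) * w := by rw [h2]
            _ = (z * z) * x * (w * w) := by group
            _ = x * (w * w) := by rw [F.zz, one_mul]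
        exact h3.symm
    intro w
    obtain ⟨k, hk⟩ := hLp ⟨(w : G) * w, hsq w w.2⟩
    refine ⟨k + 1, ?_⟩
    apply Subtype.ext
    have h4 := congrArg Subtype.val hk
    have h5 : ((w : G) * w) ^ 2 ^ k = 1 := h4
    show (w : G) ^ 2 ^ (k + 1) = 1
    rw [pow_succ', pow_mul, pow_two, h5]
  · intro R hLR hRc r m hr hr2 hc
    obtain ⟨A, hAL, hA2, hAc⟩ := F.plus
    exact TwoLocalMax.odd_of_large hLp F.meet F.norm.ge F.cent hAL hA2 (by rw [hAc]; norm_num)
      (le_normalizer.trans hLR) hRc hr hr2 hc (by rw [hG]; exact J4Orders.not_pow_four hr hr2)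
  · intro S _ _ hLS _
    exact (show 2 ^ 11 ∣ Nat.card L by rw [F.card]; norm_num).trans (card_dvd_of_le hLS)
  · intro h
    rw [F.norm] at h
    have h1 := F.card_cent
    rw [h, card_top, hG] at h1
    norm_num at h1

end Cfsg.Agent.H821.J4MaxB
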