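import Cfsg.Agent.H821.SLTwo
import Cfsg.Agent.H821.FixCard

/-!
# Normal subgroups of `S5 × L3(2)`; centralisers of elements of order 5 and 7 (helper821)
-/

set_option autoImplicit false

namespace Cfsg.Agent.H821.S5L3

open Subgroup
open scoped commutatorElement

/-- `S5` -/
abbrev A : Type := Equiv.Perm (Fin 5)
/-- `L3(2)` -/
abbrev B : Type := Matrix.SpecialLinearGroup (Fin 3) (ZMod 2)

theorem card_A : Nat.card A = 120 := by
  rw [Nat.card_eq_fintype_card, Fintype.card_perm, Fintype.card_fin]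
  rfl

theorem card_B : Nat.card B = 168 := SLTwo.card_three

theorem center_A {a : A} (h : ∀ σ : A, σ * a = a * σ) : a = 1 := by
  ext x
  congr 1
  show a x = x
  by_contra hne
  obtain ⟨y, hy1, hy2⟩ : ∃ y : Fin 5, y ≠ x ∧ y ≠ a x := by
    have : ∀ x z : Fin 5, ∃ y, y ≠ x ∧ y ≠ z := by decide
    exact this x (a x)
  have h1 := congrArg (fun f : A => f x) (h (Equiv.swap x y))
  have h2 : Equiv.swap x y (a x) = a (Equiv.swap x y x) := h1
  rw [Equiv.swap_apply_left, Equiv.swap_apply_of_ne_of_ne hne (Ne.symm hy2)] at h2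
  exact hy1 (a.injective h2).symm

/-- a normal subgroup of `S5` of order prime to 5 is trivial -/
theorem normal_A (D : Subgroup A) [hD : D.Normal] (h5 : ¬ 5 ∣ Nat.card D) : D = ⊥ := by
  by_contra hne
  -- `D` is transitive
  have htr : ∀ x y : Fin 5, ∃ d ∈ D, (d : A) x = y := by
    obtain ⟨⟨d, hd⟩, hd1⟩ := (ne_bot_iff_exists_ne_one).1 hne
    have hd1' : d ≠ 1 := fun h => hd1 (Subtype.ext h)
    obtain ⟨x0, hx0⟩ : ∃ x, d x ≠ x := by
      by_contra h
      push Not at h
      exact hd1' (Equiv.ext h)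
    intro x y
    by_cases hxy : x = y
    · exact ⟨1, D.one_mem, hxy⟩
    · obtain ⟨σ, h1, h2⟩ : ∃ σ : A, σ x0 = x ∧ σ (d x0) = y := by
        have key : ∀ a b c e : Fin 5, a ≠ b → c ≠ e → ∃ σ : A, σ a = c ∧ σ b = e := by
          intro a b c e hab hce
          refine ⟨Equiv.swap (Equiv.swap a c b) e * Equiv.swap a c, ?_, ?_⟩
          · rw [Equiv.Perm.mul_apply, Equiv.swap_apply_left]
            rw [Equiv.swap_apply_of_ne_of_ne _ hce]
            intro h
            have := congrArg (Equiv.swap a c) h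
            rw [Equiv.swap_apply_right, Equiv.swap_apply_self] at this
            exact hab this
          · rw [Equiv.Perm.mul_apply, Equiv.swap_apply_left]
        exact key x0 (d x0) x y (Ne.symm hx0) hxy
      refine ⟨σ * d * σ⁻¹, hD.conj_mem d hd σ, ?_⟩
      have h3 : σ⁻¹ x = x0 := by rw [← h1]; exact σ.symm_apply_apply x0
      rw [Equiv.Perm.mul_apply, Equiv.Perm.mul_apply, h3, h2]
  have h1 : MulAction.orbit D (0 : Fin 5) = Set.univ := by
    ext y
    simp only [Set.mem_univ, iff_true]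
    obtain ⟨d, hd, hdy⟩ := htr 0 y
    exact ⟨⟨d, hd⟩, hdy⟩
  have h2 := MulAction.index_stabilizer D (0 : Fin 5)
  rw [h1, Set.ncard_univ, Nat.card_fin] at h2
  apply h5
  have h3 := (MulAction.stabilizer D (0 : Fin 5)).index_dvd_card
  rwa [h2] at h3

theorem card_comap_inl (D : Subgroup (A × B)) : Nat.card (D.comap (MonoidHom.inl A B)) ∣ Nat.card D := by
  let f : D.comap (MonoidHom.inl A B) →* D := ((MonoidHom.inl A B).comp (Subgroup.subtype _)).codRestrict D (fun x => x.2)
  refine card_dvd_of_injective f ?_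
  intro x y h
  have h1 : ((f x : D) : A × B).1 = ((f y : D) : A × B).1 := by rw [h]
  exact Subtype.ext h1

theorem card_comap_inr (D : Subgroup (A × B)) : Nat.card (D.comap (MonoidHom.inr A B)) ∣ Nat.card D := by
  let f : D.comap (MonoidHom.inr A B) →* D := ((MonoidHom.inr A B).comp (Subgroup.subtype _)).codRestrict D (fun x => x.2)
  refine card_dvd_of_injective f ?_
  intro x y h
  have h1 : ((f x : D) : A × B).2 = ((f y : D) : A × B).2 := by rw [h]
  exact Subtype.ext h1

/-- a normal subgroup of `S5 × L3(2)` of order prime to 5 and 7 is trivial -/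
theorem normal_AB (D : Subgroup (A × B)) [hD : D.Normal] (h5 : ¬ 5 ∣ Nat.card D) (h7 : ¬ 7 ∣ Nat.card D) :
    D = ⊥ := by
  have h1 : D.comap (MonoidHom.inl A B) = ⊥ := by
    have : (D.comap (MonoidHom.inl A B)).Normal := hD.comap _
    exact normal_A _ (fun h => h5 (h.trans (card_comap_inl D)))
  have h2 : D.comap (MonoidHom.inr A B) = ⊥ := by
    have hB : IsSimpleGroup B := SLTwo.simple 3 (by norm_num)
    have hn : (D.comap (MonoidHom.inr A B)).Normal := hD.comap _
    rcases hn.eq_bot_or_eq_top with h | h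
    · exact h
    · exfalso
      have h3 := card_comap_inr D
      rw [h, card_top, card_B] at h3
      exact h7 (Dvd.dvd.trans (by norm_num) h3)
  rw [eq_bot_iff]
  rintro ⟨a, b⟩ hab
  have ha : a = 1 := by
    apply center_A
    intro σ
    have h3 : ((σ, 1) : A × B) * (a, b) * (σ, 1)⁻¹ * (a, b)⁻¹ ∈ D :=
      D.mul_mem (hD.conj_mem _ hab _) (D.inv_mem hab)
    have h4 : ((σ, 1) : A × B) * (a, b) * (σ, 1)⁻¹ * (a, b)⁻¹ = (σ * a * σ⁻¹ * a⁻¹, 1) := by
      ext1
      · rfl
      · show (1 : B) * b * 1⁻¹ * b⁻¹ = 1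
        group
    rw [h4] at h3
    have h5 : σ * a * σ⁻¹ * a⁻¹ ∈ D.comap (MonoidHom.inl A B) := h3
    rw [h1, mem_bot, mul_inv_eq_one, mul_inv_eq_iff_eq_mul] at h5
    exact h5
  have hb : b = 1 := by
    have h6 : b ∈ center B := by
      rw [mem_center_iff]
      intro τ
      have h3 : ((1, τ) : A × B) * (a, b) * (1, τ)⁻¹ * (a, b)⁻¹ ∈ D :=
        D.mul_mem (hD.conj_mem _ hab _) (D.inv_mem hab)
      have h4 : ((1, τ) : A × B) * (a, b) * (1, τ)⁻¹ * (a, b)⁻¹ = (1, τ * b * τ⁻¹ * b⁻¹) := by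
        ext1
        · show (1 : A) * a * 1⁻¹ * a⁻¹ = 1
          group
        · rfl
      rw [h4] at h3
      have h5 : τ * b * τ⁻¹ * b⁻¹ ∈ D.comap (MonoidHom.inr A B) := h3
      rw [h2, mem_bot, mul_inv_eq_one, mul_inv_eq_iff_eq_mul] at h5
      exact h5
    rw [SLTwo.center_eq_bot 3, mem_bot] at h6
    exact h6
  rw [ha, hb]
  exact mem_bot.2 rfl

theorem coprime_one {K : Type*} [Group K] [Finite K] {p : ℕ} (hp : p.Prime) (hK : ¬ p ∣ Nat.card K) {x : K}
    (hx : x ^ p = 1) : x = 1 := by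
  rcases (Nat.dvd_prime hp).1 (orderOf_dvd_of_pow_eq_one hx) with h | h
  · exact orderOf_eq_one_iff.1 h
  · exact absurd (h ▸ orderOf_dvd_natCard x) hK

/-- the centraliser of a subgroup of order 7 has at least 840 elements -/
theorem card_seven (P : Subgroup (A × B)) (hP : Nat.card P = 7) :
    840 ≤ Nat.card (centralizer (P : Set (A × B))) := by
  have hpow : ∀ x ∈ P, x ^ 7 = 1 := by
    intro x hx
    have h := pow_card_eq_one' (x := (⟨x, hx⟩ : P))
    rw [hP] at h
    exact congrArg Subtype.val h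
  have h1 : ∀ x ∈ P, x.1 = 1 := by
    intro x hx
    refine coprime_one (p := 7) (by norm_num) (by rw [card_A]; norm_num) ?_
    exact congrArg Prod.fst (hpow x hx)
  have hc : ∀ x ∈ P, ∀ y ∈ P, x * y = y * x := by
    have : Fact (Nat.Prime 7) := ⟨by norm_num⟩
    have hcy : IsCyclic P := isCyclic_of_prime_card hP
    intro x hx y hy
    let _ : CommGroup P := IsCyclic.commGroup
    exact congrArg Subtype.val (mul_comm (⟨x, hx⟩ : P) ⟨y, hy⟩)
  have h2 : Nat.card (A × P) = 840 := by
    rw [Nat.card_prod, card_A, hP]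
  rw [← h2]
  have hmem : ∀ (a : A), ∀ x ∈ P, ((a, 1) : A × B) * x ∈ centralizer (P : Set (A × B)) := by
    intro a x hx
    rw [mem_centralizer_iff]
    intro y hy
    have h3 : y * (a, 1) = ((a, 1) : A × B) * y := by
      ext1
      · show y.1 * a = a * y.1
        rw [h1 y hy, one_mul, mul_one]
      · show y.2 * 1 = 1 * y.2
        rw [one_mul, mul_one]
    rw [← mul_assoc, h3, mul_assoc, mul_assoc, hc y hy x hx]
  refine Nat.card_le_card_of_injective (fun q : A × P => (⟨((q.1, 1) : A × B) * q.2, hmem q.1 q.2 q.2.2⟩ :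
    centralizer (P : Set (A × B)))) ?_
  rintro ⟨a, x⟩ ⟨b, y⟩ h
  have h3 : ((a, 1) : A × B) * (x : A × B) = (b, 1) * (y : A × B) := congrArg Subtype.val h
  have h4 : a = b := by
    have := congrArg Prod.fst h3
    have h5 : a * (x : A × B).1 = b * (y : A × B).1 := this
    rwa [h1 _ x.2, h1 _ y.2, mul_one, mul_one] at h5
  subst h4
  rw [Prod.mk.injEq]
  exact ⟨rfl, Subtype.ext (mul_left_cancel h3)⟩

/-- the centraliser of a subgroup of order 5 has at least 840 elements -/
theorem card_five (P : Subgroup (A × B)) (hP : Nat.card P = 5) :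
    840 ≤ Nat.card (centralizer (P : Set (A × B))) := by
  have hpow : ∀ x ∈ P, x ^ 5 = 1 := by
    intro x hx
    have h := pow_card_eq_one' (x := (⟨x, hx⟩ : P))
    rw [hP] at h
    exact congrArg Subtype.val h
  have h1 : ∀ x ∈ P, x.2 = 1 := by
    intro x hx
    refine coprime_one (p := 5) (by norm_num) (by rw [card_B]; norm_num) ?_
    exact congrArg Prod.snd (hpow x hx)
  have hc : ∀ x ∈ P, ∀ y ∈ P, x * y = y * x := by
    have : Fact (Nat.Prime 5) := ⟨by norm_num⟩
    have hcy : IsCyclic P := isCyclic_of_prime_card hP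
    intro x hx y hy
    let _ : CommGroup P := IsCyclic.commGroup
    exact congrArg Subtype.val (mul_comm (⟨x, hx⟩ : P) ⟨y, hy⟩)
  have h2 : Nat.card (B × P) = 840 := by
    rw [Nat.card_prod, card_B, hP]
  rw [← h2]
  have hmem : ∀ (b : B), ∀ x ∈ P, ((1, b) : A × B) * x ∈ centralizer (P : Set (A × B)) := by
    intro b x hx
    rw [mem_centralizer_iff]
    intro y hy
    have h3 : y * (1, b) = ((1, b) : A × B) * y := by
      ext1
      · show y.1 * 1 = 1 * y.1
        rw [one_mul, mul_one]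
      · show y.2 * b = b * y.2
        rw [h1 y hy, one_mul, mul_one]
    rw [← mul_assoc, h3, mul_assoc, mul_assoc, hc y hy x hx]
  refine Nat.card_le_card_of_injective (fun q : B × P => (⟨((1, q.1) : A × B) * q.2, hmem q.1 q.2 q.2.2⟩ :
    centralizer (P : Set (A × B)))) ?_
  rintro ⟨a, x⟩ ⟨b, y⟩ h
  have h3 : ((1, a) : A × B) * (x : A × B) = (1, b) * (y : A × B) := congrArg Subtype.val h
  have h4 : a = b := by
    have := congrArg Prod.snd h3
    have h5 : a * (x : A × B).2 = b * (y : A × B).2 := this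
    rwa [h1 _ x.2, h1 _ y.2, mul_one, mul_one] at h5
  subst h4
  rw [Prod.mk.injEq]
  exact ⟨rfl, Subtype.ext (mul_left_cancel h3)⟩

end Cfsg.Agent.H821.S5L3
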