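import Cfsg.Agent.H821.J4MaxB
import Cfsg.Agent.H821.S5L3
import Cfsg.Prelude.Def_TwoFusion

/-!
# The normaliser of `2^{3+12}` in `J4` is maximal (helper821)
-/

set_option autoImplicit false
set_option linter.unusedSectionVars false

namespace Cfsg.Agent.H821.J4MaxC

open Subgroup Cfsg Cfsg.Agent.OrdDiv Cfsg.Agent.H821
open Cfsg.Agent.H821.J4Orders (NN)
open Cfsg.Agent.H821.S5L3 (A B)
open scoped commutatorElement

universe u

variable {G : Type u} [Group G] [Finite G]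

section

variable {L M : Subgroup G} {φ : M →* A × B}

/-- coprime action : `|C(P)| = |C_L(P)| |C(φ P)|` -/
theorem card_cent (hLM : L ≤ M) (hML : M ≤ normalizer (L : Set G)) {p : ℕ} [hp : Fact p.Prime] (hp2 : p ≠ 2)
    {P : Subgroup G} (hP : IsPGroup p P) {k : ℕ} (hL : Nat.card L = 2 ^ k)
    (hc : centralizer (P : Set G) ≤ M) (hPL : P ≤ M)
    (hs : Function.Surjective φ) (hk : ∀ x, φ x = 1 ↔ (x : G) ∈ L) :
    Nat.card (centralizer (P : Set G)) = Nat.card (L ⊓ centralizer (P : Set G) : Subgroup G) *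
      Nat.card (centralizer (((P.subgroupOf M).map φ : Subgroup (A × B)) : Set (A × B))) := by
  have hmem : ∀ c : centralizer (P : Set G), φ ⟨c, hc c.2⟩ ∈
      centralizer (((P.subgroupOf M).map φ : Subgroup (A × B)) : Set (A × B)) := by
    intro c
    rw [mem_centralizer_iff]
    rintro _ ⟨x, hx, rfl⟩
    rw [← map_mul, ← map_mul]
    congr 1
    exact Subtype.ext (mem_centralizer_iff.1 c.2 x (mem_subgroupOf.1 hx))
  let ψ : centralizer (P : Set G) →* centralizer (((P.subgroupOf M).map φ : Subgroup (A × B)) : Set (A × B)) :=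
    (φ.comp (inclusion hc)).codRestrict _ hmem
  have hψ : Function.Surjective ψ := by
    rintro ⟨u, hu⟩
    obtain ⟨m, rfl⟩ := hs u
    have h1 : ∀ x ∈ P, (m : G)⁻¹ * (x * m * x⁻¹) ∈ L := by
      intro x hx
      have h2 : φ ⟨x, hPL hx⟩ * φ m = φ m * φ ⟨x, hPL hx⟩ :=
        mem_centralizer_iff.1 hu _ ⟨⟨x, hPL hx⟩, mem_subgroupOf.2 hx, rfl⟩
      have h3 : φ (m⁻¹ * (⟨x, hPL hx⟩ * m * ⟨x, hPL hx⟩⁻¹)) = 1 := by
        rw [map_mul, map_mul, map_mul, map_inv, map_inv, h2]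
        group
      exact (hk _).1 h3
    have hpL : ¬ p ∣ Nat.card L := by
      rw [hL]
      intro h
      exact hp2 ((Nat.prime_dvd_prime_iff_eq hp.out Nat.prime_two).1 (hp.out.dvd_of_dvd_pow h))
    obtain ⟨y, hy, hyP⟩ := FixCard.exists_fixed hP (hPL.trans hML) hpL h1
    have h4 : (m : G) * y ∈ centralizer (P : Set G) := by
      rw [mem_centralizer_iff]
      exact hyP
    refine ⟨⟨(m : G) * y, h4⟩, ?_⟩
    apply Subtype.ext
    show φ ⟨(m : G) * y, hc h4⟩ = φ m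
    have h5 : (⟨(m : G) * y, hc h4⟩ : M) = m * ⟨y, hLM hy⟩ := rfl
    rw [h5, map_mul, (hk ⟨y, hLM hy⟩).2 hy, mul_one]
  have h1 := J4MaxB.card_preimage ψ hψ ((L ⊓ centralizer (P : Set G)).subgroupOf (centralizer (P : Set G))) (by
    intro c
    rw [mem_subgroupOf, mem_inf]
    constructor
    · intro h
      refine ⟨?_, c.2⟩
      have h2 : φ ⟨c, hc c.2⟩ = 1 := congrArg Subtype.val h
      exact (hk _).1 h2
    · intro h
      apply Subtype.ext
      exact (hk ⟨c, hc c.2⟩).2 h.1)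
  rw [h1, Nat.card_congr (subgroupOfEquivOfLe inf_le_right).toEquiv]

/-- the image of `P` has the same order -/
theorem card_map {p : ℕ} [hp : Fact p.Prime] (hp2 : p ≠ 2) {P : Subgroup G} (hP : IsPGroup p P) {k : ℕ}
    (hL : Nat.card L = 2 ^ k) (hPL : P ≤ M) (hk : ∀ x, φ x = 1 ↔ (x : G) ∈ L) :
    Nat.card ((P.subgroupOf M).map φ : Subgroup (A × B)) = Nat.card P := by
  have : Fact (Nat.Prime 2) := ⟨Nat.prime_two⟩
  have h6 : Disjoint P L := IsPGroup.disjoint_of_ne p 2 hp2 P L hP (IsPGroup.of_card hL)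
  rw [← Nat.card_congr (subgroupOfEquivOfLe hPL).toEquiv]
  refine Nat.card_congr (Equiv.symm (Equiv.ofBijective (fun x : P.subgroupOf M =>
    (⟨φ x, ⟨x, x.2, rfl⟩⟩ : (P.subgroupOf M).map φ)) ⟨?_, ?_⟩))
  · intro x y h
    have h1 : φ x = φ y := congrArg Subtype.val h
    have h2 : φ ((x : M)⁻¹ * y) = 1 := by rw [map_mul, map_inv, h1, inv_mul_cancel]
    have h3 := (hk _).1 h2
    have h4 : ((x⁻¹ * y : P.subgroupOf M) : M) = (x : M)⁻¹ * y := rfl
    have h5 : (((x : M)⁻¹ * y : M) : G) ∈ P := mem_subgroupOf.1 (h4 ▸ (x⁻¹ * y).2)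
    have h7 := disjoint_def.1 h6 h5 h3
    apply Subtype.ext
    apply Subtype.ext
    have h8 : (((x : M) : G))⁻¹ * ((y : M) : G) = 1 := h7
    exact inv_mul_eq_one.1 h8
  · rintro ⟨_, ⟨x, hx, rfl⟩⟩
    exact ⟨⟨x, hx⟩, rfl⟩

end

/-- the situation -/
structure Sit (L M Z : Subgroup G) (P₅ : Sylow 5 G) (P₇ : Sylow 7 G) (φ : M →* A × B) : Prop where
  norm : normalizer (L : Set G) = M
  card : Nat.card L = 2 ^ 15
  Zdef : Z = L ⊓ centralizer (L : Set G)
  cardZ : Nat.card Z = 8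
  surj : Function.Surjective φ
  ker : ∀ x, φ x = 1 ↔ (x : G) ∈ L
  n5 : normalizer ((P₅ : Subgroup G) : Set G) ≤ M
  n7 : normalizer ((P₇ : Subgroup G) : Set G) ≤ M
  card5 : Nat.card (P₅ : Subgroup G) = 5
  card7 : Nat.card (P₇ : Subgroup G) = 7
  c5 : Nat.card (centralizer ((P₅ : Subgroup G) : Set G)) = 6720
  c7 : Nat.card (centralizer ((P₇ : Subgroup G) : Set G)) = 840

namespace Sit

variable {L M Z : Subgroup G} {P₅ : Sylow 5 G} {P₇ : Sylow 7 G} {φ : M →* A × B}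

instance fact5 : Fact (Nat.Prime 5) := ⟨by norm_num⟩
instance fact7 : Fact (Nat.Prime 7) := ⟨by norm_num⟩

theorem LM (S : Sit L M Z P₅ P₇ φ) : L ≤ M := S.norm ▸ le_normalizer
theorem ZL (S : Sit L M Z P₅ P₇ φ) : Z ≤ L := S.Zdef ▸ inf_le_left
theorem pL (S : Sit L M Z P₅ P₇ φ) : IsPGroup 2 L := IsPGroup.of_card S.card
theorem P5M (S : Sit L M Z P₅ P₇ φ) : (P₅ : Subgroup G) ≤ M := le_normalizer.trans S.n5
theorem P7M (S : Sit L M Z P₅ P₇ φ) : (P₇ : Subgroup G) ≤ M := le_normalizer.trans S.n7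

theorem card_M (S : Sit L M Z P₅ P₇ φ) : Nat.card M = 2 ^ 21 * 3 ^ 2 * 5 * 7 := by
  have h := J4MaxB.card_preimage φ S.surj (L.subgroupOf M) (fun c => by rw [mem_subgroupOf]; exact S.ker c)
  rw [h, Nat.card_congr (subgroupOfEquivOfLe S.LM).toEquiv, S.card, Nat.card_prod, S5L3.card_A, S5L3.card_B]
  norm_num

/-- `C_L(P₇) = 1` -/
theorem cL7 (S : Sit L M Z P₅ P₇ φ) : L ⊓ centralizer ((P₇ : Subgroup G) : Set G) = ⊥ := by
  have h := card_cent (φ := φ) S.LM S.norm.ge (p := 7) (by norm_num) P₇.2 S.card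
    ((centralizer_le_normalizer _).trans S.n7) S.P7M S.surj S.ker
  have h2 := S5L3.card_seven (((P₇ : Subgroup G).subgroupOf M).map φ)
    ((card_map (p := 7) (by norm_num) P₇.2 S.card S.P7M S.ker).trans S.card7)
  rw [S.c7] at h
  apply Subgroup.card_eq_one.1
  have h3 : 0 < Nat.card (L ⊓ centralizer ((P₇ : Subgroup G) : Set G) : Subgroup G) := Nat.card_pos
  nlinarith

/-- `|C_L(P₅)| ≤ 8` -/
theorem cL5_le (S : Sit L M Z P₅ P₇ φ) :
    Nat.card (L ⊓ centralizer ((P₅ : Subgroup G) : Set G) : Subgroup G) ≤ 8 := by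
  have h := card_cent (φ := φ) S.LM S.norm.ge (p := 5) (by norm_num) P₅.2 S.card
    ((centralizer_le_normalizer _).trans S.n5) S.P5M S.surj S.ker
  have h2 := S5L3.card_five (((P₅ : Subgroup G).subgroupOf M).map φ)
    ((card_map (p := 5) (by norm_num) P₅.2 S.card S.P5M S.ker).trans S.card5)
  rw [S.c5] at h
  nlinarith

theorem MZ (S : Sit L M Z P₅ P₇ φ) : M ≤ normalizer (Z : Set G) := by
  rw [S.Zdef, ← S.norm]
  exact Lib.MinNormal.le_normalizer_inf le_rfl (TwoLocalMax.le_normalizer_centralizer L)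

theorem arith5 : ∀ j ≤ 3, 8 ≡ 2 ^ j [MOD 5] → j = 3 := by decide

theorem arith57 : ∀ k ≤ 15, 3 ≤ k → 2 ^ k ≡ 1 [MOD 7] → 2 ^ k ≡ 8 [MOD 5] → k = 3 ∨ k = 15 := by decide

theorem arith7 : ∀ j ≤ 3, 2 ^ j ≡ 1 [MOD 7] → j = 0 ∨ j = 3 := by decide

/-- `C_L(P₅) = Z` -/
theorem cL5 (S : Sit L M Z P₅ P₇ φ) : L ⊓ centralizer ((P₅ : Subgroup G) : Set G) = Z := by
  have h1 := FixCard.card_modEq (N := Z) P₅.2 (S.P5M.trans S.MZ)
  have h2 : Nat.card (Z ⊓ centralizer ((P₅ : Subgroup G) : Set G) : Subgroup G) ∣ 2 ^ 3 := by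
    have := card_dvd_of_le (inf_le_left : Z ⊓ centralizer ((P₅ : Subgroup G) : Set G) ≤ Z)
    rw [S.cardZ] at this
    exact this
  obtain ⟨j, hj, hj'⟩ := (Nat.dvd_prime_pow Nat.prime_two).1 h2
  rw [S.cardZ, hj'] at h1
  have h3 := arith5 j hj h1
  have h4 : Z ⊓ centralizer ((P₅ : Subgroup G) : Set G) = Z :=
    eq_of_le_of_card_ge inf_le_left (by rw [hj', h3, S.cardZ]; norm_num)
  have h5 : Z ≤ L ⊓ centralizer ((P₅ : Subgroup G) : Set G) := le_inf S.ZL (inf_eq_left.1 h4)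
  exact (eq_of_le_of_card_ge h5 (by rw [S.cardZ]; exact S.cL5_le)).symm

/-- irreducibility -/
theorem irr (S : Sit L M Z P₅ P₇ φ) (W : Subgroup G) (hW : W ≤ L) (hM : M ≤ normalizer (W : Set G)) :
    W = ⊥ ∨ W = Z ∨ W = L := by
  by_cases hW1 : W = ⊥
  · exact Or.inl hW1
  right
  have : Fact (Nat.Prime 2) := ⟨Nat.prime_two⟩
  have hWd : Nat.card W ∣ 2 ^ 15 := by rw [← S.card]; exact card_dvd_of_le hW
  obtain ⟨k, hk, hk'⟩ := (Nat.dvd_prime_pow Nat.prime_two).1 hWd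
  have hk0 : k ≠ 0 := by
    rintro rfl
    exact hW1 (Subgroup.card_eq_one.1 hk')
  -- `W ⊓ Z ≠ ⊥`
  have hWZ : W ⊓ Z ≠ ⊥ := by
    have h1 := FixCard.card_modEq (N := W) S.pL (S.LM.trans hM)
    intro h
    have h3 : W ⊓ centralizer (L : Set G) ≤ W ⊓ Z := by
      rw [S.Zdef]
      exact le_inf inf_le_left (le_inf (inf_le_left.trans hW) inf_le_right)
    rw [h, le_bot_iff] at h3
    rw [h3, card_bot, hk'] at h1
    have h3 : 2 ∣ 2 ^ k := dvd_pow_self 2 hk0
    have h4 := (Nat.modEq_zero_iff_dvd.2 h3).symm.trans h1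
    exact absurd h4 (by decide)
  have hbot7 : ∀ X : Subgroup G, X ≤ L → X ⊓ centralizer ((P₇ : Subgroup G) : Set G) = ⊥ := by
    intro X hX
    rw [eq_bot_iff, ← S.cL7]
    exact inf_le_inf_right _ hX
  have hZW : Z ≤ W := by
    have h1 := FixCard.card_modEq (N := W ⊓ Z) P₇.2
      (S.P7M.trans (Lib.MinNormal.le_normalizer_inf hM S.MZ))
    rw [hbot7 _ (inf_le_left.trans hW), card_bot] at h1
    have h2 : Nat.card (W ⊓ Z : Subgroup G) ∣ 2 ^ 3 := by
      have := card_dvd_of_le (inf_le_right : W ⊓ Z ≤ Z)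
      rw [S.cardZ] at this
      exact this
    obtain ⟨j, hj, hj'⟩ := (Nat.dvd_prime_pow Nat.prime_two).1 h2
    rw [hj'] at h1
    rcases arith7 j hj h1 with h | h
    · rw [h, pow_zero] at hj'
      exact absurd (Subgroup.card_eq_one.1 hj') hWZ
    · have h4 : W ⊓ Z = Z := eq_of_le_of_card_ge inf_le_right (by rw [hj', h, S.cardZ]; norm_num)
      exact inf_eq_right.1 h4
  have h7 := FixCard.card_modEq (N := W) P₇.2 (S.P7M.trans hM)
  rw [hbot7 W hW, card_bot, hk'] at h7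
  have h5 := FixCard.card_modEq (N := W) P₅.2 (S.P5M.trans hM)
  have hc5 : W ⊓ centralizer ((P₅ : Subgroup G) : Set G) = Z := by
    apply le_antisymm
    · rw [← S.cL5]
      exact inf_le_inf_right _ hW
    · refine le_inf hZW ?_
      rw [← S.cL5]
      exact inf_le_right
  rw [hc5, hk', S.cardZ] at h5
  have hk3 : 3 ≤ k := by
    have h := Nat.le_of_dvd Nat.card_pos (card_dvd_of_le hZW)
    rw [S.cardZ, hk'] at h
    by_contra hlt
    have : 2 ^ k ≤ 2 ^ 2 := Nat.pow_le_pow_right (by norm_num) (by omega)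
    omega
  rcases arith57 k hk hk3 h7 h5 with h | h
  · left
    exact (eq_of_le_of_card_ge hZW (by rw [hk', h, S.cardZ]; norm_num)).symm
  · right
    exact eq_of_le_of_card_ge hW (by rw [hk', h, S.card])

theorem Z_le_cent5 (S : Sit L M Z P₅ P₇ φ) : Z ≤ centralizer ((P₅ : Subgroup G) : Set G) := by
  rw [← S.cL5]
  exact inf_le_right

/-- the image in `A × B` of a normal subgroup of `M` -/
theorem le_L_of_not_dvd (S : Sit L M Z P₅ P₇ φ) {D : Subgroup G} (hDM : D ≤ M) (hn : M ≤ normalizer (D : Set G))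
    (h5 : ¬ 5 ∣ Nat.card D) (h7 : ¬ 7 ∣ Nat.card D) : D ≤ L := by
  have hD : (D.subgroupOf M).Normal := (normal_subgroupOf_iff_le_normalizer hDM).2 hn
  have hD' : ((D.subgroupOf M).map φ).Normal := hD.map _ S.surj
  have hdvd : Nat.card ((D.subgroupOf M).map φ : Subgroup (A × B)) ∣ Nat.card D := by
    rw [← Nat.card_congr (subgroupOfEquivOfLe hDM).toEquiv]
    exact Subgroup.card_map_dvd _ _
  have h := S5L3.normal_AB ((D.subgroupOf M).map φ) (fun h => h5 (h.trans hdvd)) (fun h => h7 (h.trans hdvd))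
  intro x hx
  have h1 : φ ⟨x, hDM hx⟩ ∈ (D.subgroupOf M).map φ := ⟨⟨x, hDM hx⟩, mem_subgroupOf.2 hx, rfl⟩
  rw [h, mem_bot] at h1
  exact (S.ker _).1 h1

/-- `O_2(M) ≤ L` -/
theorem core (S : Sit L M Z P₅ P₇ φ) (W : Subgroup G) (hW : W ≤ M) (hn : M ≤ normalizer (W : Set G))
    (hW2 : IsPGroup 2 W) : W ≤ L := by
  have : Fact (Nat.Prime 2) := ⟨Nat.prime_two⟩
  obtain ⟨k, hk⟩ := IsPGroup.iff_card.1 hW2
  refine S.le_L_of_not_dvd hW hn ?_ ?_
  · intro h
    rw [hk] at h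
    have h1 := (Nat.prime_dvd_prime_iff_eq (by norm_num) Nat.prime_two).1
      ((show Nat.Prime 5 by norm_num).dvd_of_dvd_pow h)
    omega
  · intro h
    rw [hk] at h
    have h1 := (Nat.prime_dvd_prime_iff_eq (by norm_num) Nat.prime_two).1
      ((show Nat.Prime 7 by norm_num).dvd_of_dvd_pow h)
    omega

end Sit

/-- a normal subgroup of `M` of order divisible by `p` contains every Sylow subgroup of order `p` -/
theorem sylow_le {M D : Subgroup G} {p : ℕ} [hp : Fact p.Prime] (P : Sylow p G) (hP : Nat.card (P : Subgroup G) = p)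
    (hPM : (P : Subgroup G) ≤ M) (hDM : D ≤ M) (hn : M ≤ normalizer (D : Set G)) (hD : p ∣ Nat.card D) :
    (P : Subgroup G) ≤ D := by
  obtain ⟨y, hy⟩ := exists_prime_orderOf_dvd_card' (G := D) p hD
  have hyM : (y : G) ∈ M := hDM y.2
  have hoy : orderOf (y : G) = p := by rw [Subgroup.orderOf_coe]; exact hy
  have hQp : IsPGroup p (zpowers (⟨y, hyM⟩ : M)) := by
    refine IsPGroup.of_card (n := 1) ?_
    rw [Nat.card_zpowers, pow_one, ← Subgroup.orderOf_coe]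
    exact hoy
  obtain ⟨R, hR⟩ := hQp.exists_le_sylow
  obtain ⟨m, hm⟩ := MulAction.exists_smul_eq M R (P.subtype hPM)
  have h1 : Nat.card (P.subtype hPM : Sylow p M) = p :=
    (Nat.card_congr (subgroupOfEquivOfLe hPM).toEquiv).trans hP
  have hRc : Nat.card R = p := (Nat.card_congr (Sylow.equiv R (P.subtype hPM)).toEquiv).trans h1
  have hRz : (R : Subgroup M) = zpowers (⟨y, hyM⟩ : M) := by
    refine (eq_of_le_of_card_ge hR ?_).symm
    rw [Nat.card_zpowers, ← Subgroup.orderOf_coe]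
    exact (hRc.trans hoy.symm).le
  intro x hx
  have hx' : (⟨x, hPM hx⟩ : M) ∈ (P.subtype hPM : Subgroup M) := mem_subgroupOf.2 hx
  rw [← hm] at hx'
  have h2 : (⟨x, hPM hx⟩ : M) ∈ ((m • R : Sylow p M) : Subgroup M) := hx'
  rw [Sylow.coe_subgroup_smul, hRz] at h2
  obtain ⟨w, hw, hwx⟩ := h2
  have h3 : x = m * (w : G) * (m : G)⁻¹ := (congrArg Subtype.val hwx).symm
  have h4 : (w : G) ∈ D := by
    obtain ⟨i, rfl⟩ := hw
    exact zpow_mem y.2 i
  rw [h3]
  exact (mem_normalizer_iff.1 (hn m.2) _).1 h4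

namespace Sit

variable {L M Z : Subgroup G} {P₅ : Sylow 5 G} {P₇ : Sylow 7 G} {φ : M →* A × B}

theorem cent (S : Sit L M Z P₅ P₇ φ) : centralizer (L : Set G) ≤ L := by
  have hDM : centralizer (L : Set G) ≤ M := (centralizer_le_normalizer _).trans S.norm.le
  have hn : M ≤ normalizer ((centralizer (L : Set G) : Subgroup G) : Set G) := by
    rw [← S.norm]
    exact TwoLocalMax.le_normalizer_centralizer L
  refine S.le_L_of_not_dvd hDM hn ?_ ?_
  · intro h
    have h1 := sylow_le P₅ S.card5 S.P5M hDM hn h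
    have h2 : L ≤ centralizer ((P₅ : Subgroup G) : Set G) := by rwa [le_centralizer_iff] at h1
    have h3 := S.cL5
    rw [inf_eq_left.2 h2] at h3
    have h4 := S.card
    rw [h3, S.cardZ] at h4
    norm_num at h4
  · intro h
    have h1 := sylow_le P₇ S.card7 S.P7M hDM hn h
    have h2 : L ≤ centralizer ((P₇ : Subgroup G) : Set G) := by rwa [le_centralizer_iff] at h1
    have h3 := S.cL7
    rw [inf_eq_left.2 h2] at h3
    have h4 := S.card
    rw [h3, card_bot] at h4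
    norm_num at h4

theorem Zc (S : Sit L M Z P₅ P₇ φ) : ∀ a ∈ Z, ∀ b ∈ L, a * b = b * a := by
  intro a ha b hb
  rw [S.Zdef] at ha
  exact ((mem_centralizer_iff.1 (mem_inf.1 ha).2) b hb).symm

theorem he (S : Sit L M Z P₅ P₇ φ) (hsp : L ≤ L ∧ Z ≤ ⁅L, L⁆) (W : Subgroup G) (hW : W ≤ M)
    (hn : M ≤ normalizer (W : Set G)) (hcomm : ⁅W, L⁆ ≤ Z) : W ≤ L := by
  refine S.core W hW hn ?_
  -- `W` centralises `Z`
  have hWZ : ∀ w ∈ W, ∀ c ∈ Z, w * c = c * w := by
    intro w hw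
    have h1 : ⁅L, L⁆ ≤ centralizer ({w} : Set G) := by
      rw [commutator_le]
      intro x hx y hy
      rw [mem_centralizer_singleton_iff]
      have hx' : w * x * w⁻¹ * x⁻¹ ∈ Z := hcomm (commutator_mem_commutator hw hx)
      have hy' : w * y * w⁻¹ * y⁻¹ ∈ Z := hcomm (commutator_mem_commutator hw hy)
      obtain ⟨c, hc, hcx⟩ : ∃ c ∈ Z, w * x * w⁻¹ = c * x := ⟨_, hx', by group⟩
      obtain ⟨d, hd, hdy⟩ : ∃ d ∈ Z, w * y * w⁻¹ = d * y := ⟨_, hy', by group⟩
      have h2 : w * ⁅x, y⁆ * w⁻¹ = ⁅x, y⁆ := by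
        have e1 : w * ⁅x, y⁆ * w⁻¹ = ⁅w * x * w⁻¹, w * y * w⁻¹⁆ := by
          simp only [commutatorElement_def]; group
        rw [e1, hcx, hdy]
        have hcL := S.Zc c hc
        have hdL := S.Zc d hd
        have c1 : Commute c x := hcL x hx
        have c2 : Commute c y := hcL y hy
        have d1 : Commute d x := hdL x hx
        have d2 : Commute d y := hdL y hy
        have cd : Commute c d := hcL d (S.ZL hd)
        simp only [commutatorElement_def, mul_inv_rev]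
        calc c * x * (d * y) * (x⁻¹ * c⁻¹) * (y⁻¹ * d⁻¹)
            = c * (x * d) * y * x⁻¹ * c⁻¹ * y⁻¹ * d⁻¹ := by group
          _ = c * (d * x) * y * x⁻¹ * c⁻¹ * y⁻¹ * d⁻¹ := by rw [d1.eq]
          _ = (c * d) * (x * y * x⁻¹) * (c⁻¹ * y⁻¹) * d⁻¹ := by group
          _ = (c * d) * (x * y * x⁻¹) * (y⁻¹ * c⁻¹) * d⁻¹ := by rw [(c2.inv_inv).eq]
          _ = (c * d) * ((x * y * x⁻¹ * y⁻¹) * (c⁻¹ * d⁻¹)) := by group
          _ = (c * d) * ((c⁻¹ * d⁻¹) * (x * y * x⁻¹ * y⁻¹)) := by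
              have e2 : Commute (x * y * x⁻¹ * y⁻¹) (c⁻¹ * d⁻¹) := by
                refine Commute.mul_right ?_ ?_
                · exact (((c1.symm.mul_left c2.symm).mul_left c1.symm.inv_left).mul_left c2.symm.inv_left).inv_right
                · exact (((d1.symm.mul_left d2.symm).mul_left d1.symm.inv_left).mul_left d2.symm.inv_left).inv_right
              rw [e2.eq]
          _ = (c * d * (c⁻¹ * d⁻¹)) * (x * y * x⁻¹ * y⁻¹) := by group
          _ = x * y * x⁻¹ * y⁻¹ := by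
              rw [(cd.inv_inv).eq, show c * d * (d⁻¹ * c⁻¹) = 1 by group, one_mul]
      exact (mul_inv_eq_iff_eq_mul.1 h2).symm
    intro c hc
    have h3 := h1 (hsp.2 hc)
    rw [mem_centralizer_singleton_iff] at h3
    exact h3.symm
  intro w
  have key : ∀ n : ℕ, ∀ x c : G, x ∈ L → c ∈ Z → (w : G) * x * (w : G)⁻¹ = c * x →
      (w : G) ^ n * x * ((w : G) ^ n)⁻¹ = c ^ n * x := by
    intro n x c hx hc h
    induction n with
    | zero => simp
    | succ n ih =>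
      have hcw : Commute (w : G) c := hWZ w w.2 c hc
      calc (w : G) ^ (n + 1) * x * ((w : G) ^ (n + 1))⁻¹
          = (w : G) ^ n * ((w : G) * x * (w : G)⁻¹) * ((w : G) ^ n)⁻¹ := by rw [pow_succ]; group
        _ = (w : G) ^ n * (c * x) * ((w : G) ^ n)⁻¹ := by rw [h]
        _ = ((w : G) ^ n * c) * x * ((w : G) ^ n)⁻¹ := by group
        _ = (c * (w : G) ^ n) * x * ((w : G) ^ n)⁻¹ := by rw [(hcw.pow_left n).eq]
        _ = c * ((w : G) ^ n * x * ((w : G) ^ n)⁻¹) := by group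
        _ = c * (c ^ n * x) := by rw [ih]
        _ = c ^ (n + 1) * x := by rw [pow_succ', mul_assoc]
  have hw8 : (w : G) ^ 8 ∈ L := by
    apply S.cent
    rw [mem_centralizer_iff]
    intro x hx
    have hx' : (w : G) * x * (w : G)⁻¹ * x⁻¹ ∈ Z := hcomm (commutator_mem_commutator w.2 hx)
    obtain ⟨c, hc, hcx⟩ : ∃ c ∈ Z, (w : G) * x * (w : G)⁻¹ = c * x := ⟨_, hx', by group⟩
    have h1 := key 8 x c hx hc hcx
    have h2 : c ^ 8 = 1 := by
      have h3 := pow_card_eq_one' (x := (⟨c, hc⟩ : Z))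
      rw [S.cardZ] at h3
      exact congrArg Subtype.val h3
    rw [h2, one_mul, mul_inv_eq_iff_eq_mul] at h1
    exact h1.symm
  obtain ⟨k, hk⟩ := S.pL ⟨(w : G) ^ 8, hw8⟩
  refine ⟨3 + k, ?_⟩
  apply Subtype.ext
  have h5 : ((w : G) ^ 8) ^ 2 ^ k = 1 := congrArg Subtype.val hk
  show (w : G) ^ 2 ^ (3 + k) = 1
  rw [pow_add, pow_mul]
  exact h5

end Sit

theorem conj_card_centralizer (g z : G) :
    Nat.card (centralizer ({g * z * g⁻¹} : Set G)) = Nat.card (centralizer ({z} : Set G)) := by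
  have h : centralizer ({g * z * g⁻¹} : Set G) = (centralizer ({z} : Set G)).map (MulAut.conj g).toMonoidHom := by
    ext x
    rw [mem_centralizer_singleton_iff]
    constructor
    · intro hx
      refine ⟨g⁻¹ * x * g, ?_, by show g * (g⁻¹ * x * g) * g⁻¹ = x; group⟩
      rw [SetLike.mem_coe, mem_centralizer_singleton_iff]
      have h1 : g⁻¹ * x * g * z = g⁻¹ * (x * (g * z * g⁻¹)) * g := by group
      have h2 : z * (g⁻¹ * x * g) = g⁻¹ * (g * z * g⁻¹ * x) * g := by group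
      rw [h1, h2, hx]
    · rintro ⟨y, hy, rfl⟩
      have hy' : y * z = z * y := mem_centralizer_singleton_iff.1 hy
      show g * y * g⁻¹ * (g * z * g⁻¹) = g * z * g⁻¹ * (g * y * g⁻¹)
      have h1 : g * y * g⁻¹ * (g * z * g⁻¹) = g * (y * z) * g⁻¹ := by group
      have h2 : g * z * g⁻¹ * (g * y * g⁻¹) = g * (z * y) * g⁻¹ := by group
      rw [h1, h2, hy']
  rw [h]
  exact (Nat.card_congr ((centralizer ({z} : Set G)).equivMapOfInjective _ (MulAut.conj g).injective).toEquiv).symm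

/-- every 2-subgroup is conjugate into a subgroup of order divisible by `2 ^ 21` -/
theorem exists_conj_le (hG : Nat.card G = NN) {M Q : Subgroup G} (hM : 2 ^ 21 ∣ Nat.card M) (hQ : IsPGroup 2 Q) :
    ∃ g : G, ∀ x ∈ Q, g * x * g⁻¹ ∈ M := by
  have : Fact (Nat.Prime 2) := ⟨Nat.prime_two⟩
  obtain ⟨T', hT'⟩ := Sylow.exists_subgroup_card_pow_prime 2 hM
  have hTc : Nat.card (T'.map M.subtype : Subgroup G) = 2 ^ 21 := by
    rw [← hT']
    exact (Nat.card_congr (T'.equivMapOfInjective M.subtype M.subtype_injective).toEquiv).symm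
  obtain ⟨S, hS⟩ := (IsPGroup.of_card hTc).exists_le_sylow
  obtain ⟨S', hS'⟩ := hQ.exists_le_sylow
  obtain ⟨g, hg⟩ := MulAction.exists_smul_eq G S' S
  have hSM : (S : Subgroup G) ≤ M := by
    have h1 : (S : Subgroup G) = T'.map M.subtype := by
      refine (eq_of_le_of_card_ge hS ?_).symm
      rw [hTc]
      obtain ⟨k, hk⟩ := IsPGroup.iff_card.1 S.2
      rw [hk]
      have h2 : 2 ^ k ∣ NN := by rw [← hk, ← hG]; exact card_subgroup_dvd_card _
      refine Nat.pow_le_pow_right (by norm_num) ?_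
      by_contra hlt
      have h3 : 2 ^ 22 ∣ NN := (pow_dvd_pow 2 (by omega)).trans h2
      revert h3
      norm_num
    rw [h1]
    rintro _ ⟨x, -, rfl⟩
    exact x.2
  refine ⟨g, fun x hx => hSM ?_⟩
  rw [← hg, Sylow.coe_subgroup_smul]
  exact ⟨x, hS' hx, rfl⟩

theorem arith33 : ∀ d ≤ 33, d ∣ 33 → d ≡ 1 [MOD 5] → d ≡ 1 [MOD 7] → d = 1 := by decide

namespace Sit

variable {L M Z : Subgroup G} {P₅ : Sylow 5 G} {P₇ : Sylow 7 G} {φ : M →* A × B}

/-- `Z` contains a conjugate of `z` -/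
theorem exists_conj_mem (S : Sit L M Z P₅ P₇ φ) {z g : G} {Lz : Subgroup G} (F : J4MaxB.Facts z Lz)
    (hg : ∀ x ∈ Lz, g * x * g⁻¹ ∈ M) : g * z * g⁻¹ ∈ Z := by
  have : Fact (Nat.Prime 2) := ⟨Nat.prime_two⟩
  have hp : IsPGroup 2 (Lz.map (MulAut.conj g).toMonoidHom : Subgroup G) := (IsPGroup.of_card F.card).map _
  have hle : Lz.map (MulAut.conj g).toMonoidHom ≤ normalizer (Z : Set G) := by
    rintro _ ⟨x, hx, rfl⟩
    exact S.MZ (hg x hx)
  have h1 := FixCard.card_modEq (N := Z) hp hle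
  have h2 : Z ⊓ centralizer ((Lz.map (MulAut.conj g).toMonoidHom : Subgroup G) : Set G) ≠ ⊥ := by
    intro h
    rw [h, card_bot, S.cardZ] at h1
    exact absurd h1 (by decide)
  obtain ⟨⟨c, hc⟩, hc1⟩ := (ne_bot_iff_exists_ne_one).1 h2
  obtain ⟨hc2, hc3⟩ := mem_inf.1 hc
  have h4 : g⁻¹ * c * g ∈ centralizer (Lz : Set G) := by
    rw [mem_centralizer_iff]
    intro x hx
    have h5 := mem_centralizer_iff.1 hc3 (g * x * g⁻¹) ⟨x, hx, rfl⟩
    have h6 : x * (g⁻¹ * c * g) = g⁻¹ * ((g * x * g⁻¹) * c) * g := by group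
    have h7 : g⁻¹ * c * g * x = g⁻¹ * (c * (g * x * g⁻¹)) * g := by group
    rw [h6, h7, h5]
  rcases J4MaxB.mem_zpowers_two F.zz (F.zcent h4) with h | h
  · exfalso
    apply hc1
    apply Subtype.ext
    show c = 1
    have : c = g * (g⁻¹ * c * g) * g⁻¹ := by group
    rw [this, h]
    group
  · have : c = g * (g⁻¹ * c * g) * g⁻¹ := by group
    rw [← h, ← this]
    exact hc2

/-- `N(Z) = M` -/
theorem normalizer_Z (S : Sit L M Z P₅ P₇ φ) (hG : Nat.card G = NN) {z g : G} {Lz : Subgroup G}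
    (F : J4MaxB.Facts z Lz) (hg : ∀ x ∈ Lz, g * x * g⁻¹ ∈ M) : normalizer (Z : Set G) ≤ M := by
  have h5 := FixCard.index_modEq S.MZ P₅ S.n5
  have h7 := FixCard.index_modEq S.MZ P₇ S.n7
  have hd := TwoLocalMax.relIndex_mul_card M (normalizer (Z : Set G))
  rw [inf_eq_right.2 S.MZ, S.card_M] at hd
  have hzZ := S.exists_conj_mem F hg
  have hcZ : Nat.card (centralizer (Z : Set G)) ∣ 2 ^ 21 * 3 ^ 3 * 5 * 7 * 11 := by
    rw [← F.card_cent, ← conj_card_centralizer g z]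
    refine card_dvd_of_le ?_
    intro x hx
    rw [mem_centralizer_singleton_iff]
    exact (mem_centralizer_iff.1 hx _ hzZ).symm
  have hX : Nat.card (normalizer (Z : Set G)) ∣ (2 ^ 21 * 3 ^ 3 * 5 * 7 * 11) * 40320 := by
    have h1 := (normalizerMonoidHom Z).ker.card_mul_index
    rw [Subgroup.index_ker, normalizerMonoidHom_ker,
      Nat.card_congr (subgroupOfEquivOfLe (centralizer_le_normalizer (Z : Set G))).toEquiv] at h1
    rw [← h1]
    refine Nat.mul_dvd_mul hcZ ?_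
    refine (card_subgroup_dvd_card _).trans ?_
    have h2 : Nat.card (Equiv.Perm Z) = 40320 := by
      rw [Nat.card_perm, S.cardZ]
      rfl
    rw [← h2]
    exact card_dvd_of_injective (MulAut.toPerm Z) (MulEquiv.toEquiv_injective)
  have hN : Nat.card (normalizer (Z : Set G)) ∣ NN := by rw [← hG]; exact card_subgroup_dvd_card _
  rw [← hd] at hX hN
  have hd1 : M.relIndex (normalizer (Z : Set G)) ∣ 1330560 := by
    refine Nat.dvd_of_mul_dvd_mul_right (k := 2 ^ 21 * 3 ^ 2 * 5 * 7) (by norm_num) (hX.trans ?_)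
    norm_num
  have hd2 : M.relIndex (normalizer (Z : Set G)) ∣ 3 * 11 ^ 3 * 23 * 29 * 31 * 37 * 43 := by
    refine Nat.dvd_of_mul_dvd_mul_right (k := 2 ^ 21 * 3 ^ 2 * 5 * 7) (by norm_num) (hN.trans ?_)
    norm_num
  have hd3 : M.relIndex (normalizer (Z : Set G)) ∣ 33 := by
    have h := Nat.dvd_gcd hd1 hd2
    have h33 : Nat.gcd 1330560 (3 * 11 ^ 3 * 23 * 29 * 31 * 37 * 43) = 33 := by norm_num
    rwa [h33] at h
  have h1 := arith33 _ (Nat.le_of_dvd (by norm_num) hd3) hd3 h5 h7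
  exact relIndex_eq_one.1 h1

end Sit

/-- **`N(L)` is maximal.** -/
theorem case_L (T : OrderTable.{u})
    (hS : ∀ (X : Type u) [Group X] [Finite X] [IsSimpleGroup X], IsKnownSimple' X)
    (hG : Nat.card G = NN) {z : G} {Lz : Subgroup G} (F : J4MaxB.Facts z Lz) {L M Z : Subgroup G}
    {P₅ : Sylow 5 G} {P₇ : Sylow 7 G} {φ : M →* A × B} (S : Sit L M Z P₅ P₇ φ) (hZ : Z ≤ ⁅L, L⁆) :
    IsCoatom (normalizer (L : Set G)) := by
  obtain ⟨g, hg⟩ := exists_conj_le hG (M := M) (by rw [S.card_M]; norm_num) (IsPGroup.of_card F.card)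
  have hL1 : L ≠ ⊥ := by
    intro h
    have := S.card
    rw [h, card_bot] at this
    norm_num at this
  have hnorm := S.norm
  refine J4MaxA.isCoatom_of T hS hG S.pL hL1 S.ZL (fun a ha b hb => S.Zc a ha b (S.ZL hb)) ?_ ?_ ?_ S.cent
    (Or.inr ?_) ?_ ?_ ?_
  · rw [hnorm]
    exact S.irr
  · intro _
    rw [hnorm]
    exact S.normalizer_Z hG F hg
  · rw [hnorm]
    exact S.core
  · rw [hnorm]
    exact S.he ⟨le_rfl, hZ⟩
  · intro R hLR hRc r m hr hr2 hc
    obtain ⟨E, hEL, hE2, hEc⟩ := F.plus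
    rw [hnorm] at hLR
    have hR' : Lz ≤ normalizer ((R.map (MulAut.conj g⁻¹).toMonoidHom : Subgroup G) : Set G) := by
      refine RankAct.le_normalizer_of_forall ?_
      rintro x hx _ ⟨w, hw, rfl⟩
      refine ⟨(g * x * g⁻¹) * w * (g * x * g⁻¹)⁻¹, (mem_normalizer_iff.1 (hLR (hg x hx)) w).1 hw, ?_⟩
      show g⁻¹ * ((g * x * g⁻¹) * w * (g * x * g⁻¹)⁻¹) * (g⁻¹)⁻¹ = x * (g⁻¹ * w * (g⁻¹)⁻¹) * x⁻¹
      group
    have hRc' : Nat.card (R.map (MulAut.conj g⁻¹).toMonoidHom : Subgroup G) = r ^ m := by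
      rw [← hc]
      exact (Nat.card_congr (R.equivMapOfInjective _ (MulAut.conj g⁻¹).injective).toEquiv).symm
    have h1 := TwoLocalMax.odd_of_large (IsPGroup.of_card F.card) F.meet F.norm.ge F.cent hEL hE2
      (by rw [hEc]; norm_num) hR' (by
        rintro _ ⟨a, ha, rfl⟩ _ ⟨b, hb, rfl⟩
        rw [← map_mul, ← map_mul, hRc a ha b hb]) hr hr2 hRc' (by rw [hG]; exact J4Orders.not_pow_four hr hr2)
    exact (map_eq_bot_iff_of_injective _ (MulAut.conj g⁻¹).injective).1 h1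
  · intro S' _ _ hLS _
    exact (show 2 ^ 11 ∣ Nat.card L by rw [S.card]; norm_num).trans (card_dvd_of_le hLS)
  · intro h
    have h1 := S.card_M
    rw [← hnorm, h, card_top, hG] at h1
    norm_num at h1

end Cfsg.Agent.H821.J4MaxC
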