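import Mathlib

/-!
# An elementary abelian 2-group acting on an abelian group of order `r ^ m`, `r` odd (helper821)

`relIndex_le` : if `F` is an elementary abelian 2-subgroup normalising the abelian subgroup `W` of odd order
`r ^ m`, then `|F : C_F(W)| ≤ 2 ^ m`.
-/

set_option autoImplicit false
set_option linter.unusedSectionVars false

namespace Cfsg.Agent.H821.RankAct

open Subgroup

variable {G : Type*} [Group G]

/-- the elements of `W` inverted by `e` (`W` abelian) -/
def inv (W : Subgroup G) (hW : ∀ a ∈ W, ∀ b ∈ W, a * b = b * a) (e : G) : Subgroup G where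
  carrier := {w | w ∈ W ∧ e * w * e⁻¹ = w⁻¹}
  mul_mem' := by
    rintro a b ⟨ha, ha'⟩ ⟨hb, hb'⟩
    refine ⟨W.mul_mem ha hb, ?_⟩
    have h : e * (a * b) * e⁻¹ = (e * a * e⁻¹) * (e * b * e⁻¹) := by group
    rw [h, ha', hb', mul_inv_rev, hW _ (W.inv_mem ha) _ (W.inv_mem hb)]
  one_mem' := ⟨W.one_mem, by group⟩
  inv_mem' := by
    rintro a ⟨ha, ha'⟩
    refine ⟨W.inv_mem ha, ?_⟩
    have h : e * a⁻¹ * e⁻¹ = (e * a * e⁻¹)⁻¹ := by group
    rw [h, ha']

theorem mem_inv {W : Subgroup G} {hW : ∀ a ∈ W, ∀ b ∈ W, a * b = b * a} {e w : G} :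
    w ∈ inv W hW e ↔ w ∈ W ∧ e * w * e⁻¹ = w⁻¹ := Iff.rfl

theorem le_normalizer_of_forall {F W : Subgroup G} (h : ∀ f ∈ F, ∀ w ∈ W, f * w * f⁻¹ ∈ W) :
    F ≤ normalizer (W : Set G) := by
  intro f hf
  rw [mem_normalizer_iff]
  intro w
  refine ⟨h f hf w, fun hw => ?_⟩
  have h2 := h f⁻¹ (F.inv_mem hf) _ hw
  rwa [inv_inv, show f⁻¹ * (f * w * f⁻¹) * f = w by group] at h2

variable [Finite G]

/-- squaring is injective on a subgroup of odd order -/
theorem eq_one_of_sq {W : Subgroup G} (hodd : Odd (Nat.card W)) {w : G} (hw : w ∈ W) (h : w * w = 1) : w = 1 := by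
  have h1 : orderOf w ∣ 2 := orderOf_dvd_of_pow_eq_one (by rw [pow_two, h])
  have h2 : orderOf w ∣ Nat.card W := by
    have := orderOf_dvd_natCard (⟨w, hw⟩ : W)
    rwa [← Subgroup.orderOf_coe] at this
  have h3 : Nat.Coprime 2 (Nat.card W) := (Nat.coprime_two_left).2 hodd
  have h4 : orderOf w ∣ 1 := by
    rw [← h3.gcd_eq_one]
    exact Nat.dvd_gcd h1 h2
  exact orderOf_eq_one_iff.1 (Nat.dvd_one.1 h4)

theorem exists_sqrt {W : Subgroup G} (hodd : Odd (Nat.card W)) {w : G} (hw : w ∈ W) :
    ∃ v ∈ W, v * v = w := by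
  obtain ⟨k, hk⟩ := hodd
  refine ⟨w ^ (k + 1), W.pow_mem hw _, ?_⟩
  have h2 : w ^ (Nat.card W) = 1 := by
    have := pow_card_eq_one' (x := (⟨w, hw⟩ : W))
    exact congrArg Subtype.val this
  rw [← pow_add, show k + 1 + (k + 1) = Nat.card W + 1 by omega, pow_succ, h2, one_mul]

theorem card_split {W : Subgroup G} (hW : ∀ a ∈ W, ∀ b ∈ W, a * b = b * a) (hodd : Odd (Nat.card W)) {e : G}
    (he : e * e = 1) (hn : ∀ w ∈ W, e * w * e⁻¹ ∈ W) :
    Nat.card (W ⊓ centralizer ({e} : Set G) : Subgroup G) * Nat.card (inv W hW e) = Nat.card W := by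
  have heinv : e⁻¹ = e := inv_eq_of_mul_eq_one_left he
  set W1 : Subgroup G := W ⊓ centralizer ({e} : Set G) with hW1
  set W2 := inv W hW e with hW2
  have hm1 : ∀ {w}, w ∈ W1 ↔ w ∈ W ∧ e * w * e⁻¹ = w := by
    intro w
    rw [hW1, mem_inf, mem_centralizer_singleton_iff]
    refine and_congr_right fun _ => ?_
    rw [mul_inv_eq_iff_eq_mul]
    exact eq_comm
  have hdisj : Disjoint (W1.subgroupOf W) (W2.subgroupOf W) := by
    rw [disjoint_def]
    intro x hx1 hx2
    rw [mem_subgroupOf] at hx1 hx2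
    have h1 := (hm1.1 hx1).2
    have h2 := (mem_inv.1 hx2).2
    apply Subtype.ext
    refine eq_one_of_sq hodd x.2 ?_
    have h3 : (x : G) = (x : G)⁻¹ := h1.symm.trans h2
    exact mul_eq_one_iff_eq_inv.2 h3
  have hsup : ∀ x : W, ∃ a ∈ W1.subgroupOf W, ∃ b ∈ W2.subgroupOf W, a * b = x := by
    intro x
    obtain ⟨v, hv, hvx⟩ := exists_sqrt hodd x.2
    have hev := hn v hv
    have hee : e * (e * v * e⁻¹) * e⁻¹ = v := by
      rw [heinv, show e * (e * v * e) * e = (e * e) * v * (e * e) by group, he, one_mul, mul_one]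
    refine ⟨⟨v * (e * v * e⁻¹), W.mul_mem hv hev⟩, ?_, ⟨v * (e * v * e⁻¹)⁻¹, W.mul_mem hv (W.inv_mem hev)⟩, ?_, ?_⟩
    · rw [mem_subgroupOf, hm1]
      refine ⟨W.mul_mem hv hev, ?_⟩
      show e * (v * (e * v * e⁻¹)) * e⁻¹ = v * (e * v * e⁻¹)
      have h : e * (v * (e * v * e⁻¹)) * e⁻¹ = (e * v * e⁻¹) * (e * (e * v * e⁻¹) * e⁻¹) := by group
      rw [h, hee]
      exact hW _ hev _ hv
    · rw [mem_subgroupOf, mem_inv]
      refine ⟨W.mul_mem hv (W.inv_mem hev), ?_⟩
      show e * (v * (e * v * e⁻¹)⁻¹) * e⁻¹ = (v * (e * v * e⁻¹)⁻¹)⁻¹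
      have h : e * (v * (e * v * e⁻¹)⁻¹) * e⁻¹ = (e * v * e⁻¹) * (e * (e * v * e⁻¹) * e⁻¹)⁻¹ := by group
      rw [h, hee, mul_inv_rev, inv_inv]
    · apply Subtype.ext
      show v * (e * v * e⁻¹) * (v * (e * v * e⁻¹)⁻¹) = x
      rw [← hvx, hW _ hv _ hev, mul_assoc, ← mul_assoc v v, hW _ (W.mul_mem hv hv) _ (W.inv_mem hev),
        ← mul_assoc, mul_inv_cancel, one_mul]
  have hcompl : IsComplement' (W1.subgroupOf W) (W2.subgroupOf W) := by
    refine isComplement'_of_disjoint_and_mul_eq_univ hdisj ?_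
    ext x
    simp only [Set.mem_univ, iff_true, Set.mem_mul, SetLike.mem_coe]
    exact hsup x
  have h1 := hcompl.card_mul_card
  rw [Nat.card_congr (subgroupOfEquivOfLe (inf_le_left : W1 ≤ W)).toEquiv,
    Nat.card_congr (subgroupOfEquivOfLe (show W2 ≤ W from fun x hx => (mem_inv.1 hx).1)).toEquiv] at h1
  exact h1

theorem relIndex_le {r : ℕ} (hr : r.Prime) (hr2 : r ≠ 2) {F : Subgroup G} (hF2 : ∀ a ∈ F, a * a = 1)
    (m : ℕ) : ∀ W : Subgroup G, (∀ a ∈ W, ∀ b ∈ W, a * b = b * a) → F ≤ normalizer (W : Set G) →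
      Nat.card W = r ^ m → (centralizer (W : Set G)).relIndex F ≤ 2 ^ m := by
  have hFc : ∀ a ∈ F, ∀ b ∈ F, a * b = b * a := by
    intro a ha b hb
    have h1 : a⁻¹ = a := inv_eq_of_mul_eq_one_left (hF2 a ha)
    have h2 : b⁻¹ = b := inv_eq_of_mul_eq_one_left (hF2 b hb)
    have h3 : (a * b)⁻¹ = a * b := inv_eq_of_mul_eq_one_left (hF2 _ (F.mul_mem ha hb))
    rw [← h3, mul_inv_rev, h1, h2]
  induction m using Nat.strong_induction_on with
  | _ m ih =>
    intro W hW hFW hcard
    have hodd : Odd (Nat.card W) := by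
      rw [hcard]
      exact (hr.odd_of_ne_two hr2).pow
    have hn : ∀ e ∈ F, ∀ w ∈ W, e * w * e⁻¹ ∈ W := fun e he w hw =>
      (mem_normalizer_iff.1 (hFW he) w).1 hw
    by_cases hm : m = 0
    · subst hm
      have hW1 : W = ⊥ := by
        rw [pow_zero] at hcard
        exact Subgroup.card_eq_one.1 hcard
      have h1 : centralizer (W : Set G) = ⊤ := by
        rw [eq_top_iff]
        intro x _
        rw [mem_centralizer_iff]
        intro y hy
        rw [hW1, SetLike.mem_coe, mem_bot] at hy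
        rw [hy, one_mul, mul_one]
      rw [h1, relIndex_top_left, pow_zero]
    by_cases hpm : ∀ e ∈ F, e ∈ centralizer (W : Set G) ∨ ∀ w ∈ W, e * w * e⁻¹ = w⁻¹
    · -- index at most two
      have h2 : (centralizer (W : Set G)).relIndex F ≤ 2 := by
        by_cases hall : ∀ e ∈ F, e ∈ centralizer (W : Set G)
        · rw [relIndex_eq_one.2 hall]
          norm_num
        · push Not at hall
          obtain ⟨e, he, hec⟩ := hall
          have hei := (hpm e he).resolve_left hec
          have h3 : (centralizer (W : Set G)).relIndex F = 2 := by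
            rw [relIndex, index_eq_two_iff]
            refine ⟨⟨e, he⟩, fun b => ?_⟩
            by_cases hb : (b : G) ∈ centralizer (W : Set G)
            · right
              refine ⟨hb, fun hbe => hec ?_⟩
              rw [mem_subgroupOf] at hbe
              have h5 := (centralizer (W : Set G)).mul_mem ((centralizer (W : Set G)).inv_mem hb) hbe
              have h6 : (b : G)⁻¹ * ((b * ⟨e, he⟩ : F) : G) = e := by
                show (b : G)⁻¹ * (b * e) = e
                group
              rwa [h6] at h5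
            · left
              refine ⟨?_, hb⟩
              have hbi := (hpm b b.2).resolve_left hb
              rw [mem_subgroupOf, mem_centralizer_iff]
              intro w hw
              show w * ((b : G) * e) = (b : G) * e * w
              have h7 : (b : G) * (e * w * e⁻¹) * (b : G)⁻¹ = w := by
                rw [hei w hw, hbi _ (W.inv_mem hw), inv_inv]
              have h8 : (b : G) * e * w * (b * e)⁻¹ = w := by
                rw [show (b : G) * e * w * (b * e)⁻¹ = (b : G) * (e * w * e⁻¹) * (b : G)⁻¹ by group, h7]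
              rw [mul_inv_eq_iff_eq_mul] at h8
              exact h8.symm
          exact h3.le
      refine h2.trans ?_
      calc 2 = 2 ^ 1 := rfl
        _ ≤ 2 ^ m := Nat.pow_le_pow_right (by norm_num) (by omega)
    · push Not at hpm
      obtain ⟨e, he, hec, w0, hw0, hw0i⟩ := hpm
      have hee := hF2 e he
      set W1 : Subgroup G := W ⊓ centralizer ({e} : Set G) with hW1
      set W2 := inv W hW e with hW2
      have hsplit : Nat.card W1 * Nat.card W2 = Nat.card W := card_split hW hodd hee (hn e he)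
      have hm1 : ∀ {w}, w ∈ W1 ↔ w ∈ W ∧ e * w * e⁻¹ = w := by
        intro w
        rw [hW1, mem_inf, mem_centralizer_singleton_iff]
        refine and_congr_right fun _ => ?_
        rw [mul_inv_eq_iff_eq_mul]
        exact eq_comm
      have hW1W : W1 ≤ W := inf_le_left
      have hW2W : W2 ≤ W := fun x hx => (mem_inv.1 hx).1
      have hc1 : Nat.card W1 ∣ r ^ m := by rw [← hcard, ← hsplit]; exact Dvd.intro _ rfl
      have hc2 : Nat.card W2 ∣ r ^ m := by rw [← hcard, ← hsplit]; exact Dvd.intro_left _ rfl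
      obtain ⟨a, -, ha⟩ := (Nat.dvd_prime_pow hr).1 hc1
      obtain ⟨b, -, hb⟩ := (Nat.dvd_prime_pow hr).1 hc2
      have hab : a + b = m := by
        rw [ha, hb, hcard, ← pow_add] at hsplit
        exact Nat.pow_right_injective hr.two_le hsplit
      have ha0 : a ≠ 0 := by
        rintro rfl
        rw [pow_zero] at ha
        have hbW : W2 = W := eq_of_le_of_card_ge hW2W (by rw [← hsplit, ha, one_mul])
        have := hbW ▸ hw0
        have h9 : w0 ∈ W2 := hbW.symm ▸ hw0
        exact hw0i (mem_inv.1 h9).2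
      have hb0 : b ≠ 0 := by
        rintro rfl
        rw [pow_zero] at hb
        have hbW : W1 = W := eq_of_le_of_card_ge hW1W (by rw [← hsplit, hb, mul_one])
        apply hec
        rw [mem_centralizer_iff]
        intro w hw
        have h9 : w ∈ W1 := hbW.symm ▸ hw
        have h10 := (hm1.1 h9).2
        rw [mul_inv_eq_iff_eq_mul] at h10
        exact h10.symm
      have hconj : ∀ f ∈ F, ∀ w, e * (f * w * f⁻¹) * e⁻¹ = f * (e * w * e⁻¹) * f⁻¹ := by
        intro f hf w
        have h1 : e * (f * w * f⁻¹) * e⁻¹ = (e * f) * w * (e * f)⁻¹ := by group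
        have h2 : f * (e * w * e⁻¹) * f⁻¹ = (f * e) * w * (f * e)⁻¹ := by group
        rw [h1, h2, hFc e he f hf]
      have hF1 : F ≤ normalizer (W1 : Set G) := by
        refine le_normalizer_of_forall fun f hf w hw => ?_
        rw [hm1] at hw ⊢
        exact ⟨hn f hf w hw.1, by rw [hconj f hf, hw.2]⟩
      have hF2' : F ≤ normalizer (W2 : Set G) := by
        refine le_normalizer_of_forall fun f hf w hw => ?_
        rw [mem_inv] at hw ⊢
        refine ⟨hn f hf w hw.1, by rw [hconj f hf, hw.2]; group⟩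
      have h1 := ih a (by omega) W1 (fun x hx y hy => hW x (hW1W hx) y (hW1W hy)) hF1 ha
      have h2 := ih b (by omega) W2 (fun x hx y hy => hW x (hW2W hx) y (hW2W hy)) hF2' hb
      have hle : centralizer (W1 : Set G) ⊓ centralizer (W2 : Set G) ≤ centralizer (W : Set G) := by
        intro x hx
        rw [mem_inf] at hx
        rw [mem_centralizer_iff]
        -- every element of `W` is a product
        intro w hw
        obtain ⟨v, hv, hvx⟩ := exists_sqrt hodd hw
        have hev := hn e he v hv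
        have heinv : e⁻¹ = e := inv_eq_of_mul_eq_one_left hee
        have hee' : e * (e * v * e⁻¹) * e⁻¹ = v := by
          rw [heinv, show e * (e * v * e) * e = (e * e) * v * (e * e) by group, hee, one_mul, mul_one]
        have hx1 : v * (e * v * e⁻¹) ∈ W1 := by
          rw [hm1]
          refine ⟨W.mul_mem hv hev, ?_⟩
          have h : e * (v * (e * v * e⁻¹)) * e⁻¹ = (e * v * e⁻¹) * (e * (e * v * e⁻¹) * e⁻¹) := by group
          rw [h, hee']
          exact hW _ hev _ hv
        have hx2 : v * (e * v * e⁻¹)⁻¹ ∈ W2 := by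
          rw [mem_inv]
          refine ⟨W.mul_mem hv (W.inv_mem hev), ?_⟩
          have h : e * (v * (e * v * e⁻¹)⁻¹) * e⁻¹ = (e * v * e⁻¹) * (e * (e * v * e⁻¹) * e⁻¹)⁻¹ := by group
          rw [h, hee', mul_inv_rev, inv_inv]
        have hprod : v * (e * v * e⁻¹) * (v * (e * v * e⁻¹)⁻¹) = w := by
          rw [← hvx, hW _ hv _ hev, mul_assoc, ← mul_assoc v v, hW _ (W.mul_mem hv hv) _ (W.inv_mem hev),
            ← mul_assoc, mul_inv_cancel, one_mul]
        have h3 := mem_centralizer_iff.1 hx.1 _ hx1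
        have h4 := mem_centralizer_iff.1 hx.2 _ hx2
        rw [← hprod, mul_assoc, h4, ← mul_assoc, h3, mul_assoc]
      calc (centralizer (W : Set G)).relIndex F
          ≤ (centralizer (W1 : Set G) ⊓ centralizer (W2 : Set G)).relIndex F :=
            relIndex_le_of_le_left hle index_ne_zero_of_finite
        _ ≤ (centralizer (W1 : Set G)).relIndex F * (centralizer (W2 : Set G)).relIndex F := relIndex_inf_le
        _ ≤ 2 ^ a * 2 ^ b := Nat.mul_le_mul h1 h2
        _ = 2 ^ m := by rw [← pow_add, hab]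

end Cfsg.Agent.H821.RankAct
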