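import Cfsg.Agent.J4Type.TauMain
import Cfsg.Agent.J4Type.DuadUniq
import Cfsg.Agent.SporadicA.OctadFix

/-!
# J₄ type: the self-centralising subgroups of order `2^10` — definitions (helper821)

For `C : J4Type.Compl G` and an octad `O`:

* `W C O` : the cocode elements `ε S`, `S ⊆ O` even (order `2^6`);
* `BO O` : the pointwise stabiliser of `O`, as a subgroup of `M24` (order `2^4`);
* `A C O = W C O ⊔ φ(BO O)` (order `2^10`).
-/

set_option autoImplicit false

open scoped Pointwise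

namespace Cfsg.Agent.H821.Ten

open Cfsg Cfsg.Agent.J4Type Cfsg.Agent.SporadicA.OctadFix

variable {G : Type*} [Group G] (C : J4Type.Compl G)

theorem even_symmDiff {S T : Finset GolayPt} (hS : Even S.card) (hT : Even T.card) :
    Even (symmDiff S T).card := by
  classical
  rw [symmDiff_def, Finset.sup_eq_union,
    Finset.card_union_of_disjoint (Finset.disjoint_left.2 fun x hx hx' =>
      (Finset.mem_sdiff.1 hx).2 (Finset.mem_sdiff.1 hx').1)]
  have h1 := Finset.card_sdiff_add_card_inter S T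
  have h2 := Finset.card_sdiff_add_card_inter T S
  rw [Finset.inter_comm T S] at h2
  rw [Nat.even_iff] at hS hT ⊢
  omega

theorem ε_empty : C.ε ∅ = 1 := by
  have h := C.ε_mul ∅ ∅ (by simp) (by simp)
  rw [symmDiff_self, Finset.bot_eq_empty] at h
  exact left_eq_mul.1 h

/-- the cocode elements `ε S`, `S` an even subset of `O` -/
def W (O : Finset GolayPt) : Subgroup G where
  carrier := {a | ∃ S : Finset GolayPt, S ⊆ O ∧ Even S.card ∧ C.ε S = a}
  one_mem' := ⟨∅, Finset.empty_subset _, by simp, ε_empty C⟩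
  mul_mem' := by
    rintro _ _ ⟨S, hS, hS2, rfl⟩ ⟨T, hT, hT2, rfl⟩
    refine ⟨symmDiff S T, ?_, even_symmDiff hS2 hT2, C.ε_mul S T hS2 hT2⟩
    exact (Finset.symmDiff_subset_union).trans (Finset.union_subset hS hT)
  inv_mem' := by
    rintro _ ⟨S, hS, hS2, rfl⟩
    refine ⟨S, hS, hS2, ?_⟩
    exact (inv_eq_of_mul_eq_one_left ((C.E_elem hex0 HexMax.hex0_isHex).1 _ (C.ε_mem S hS2))).symm

variable {C}

theorem mem_W {O : Finset GolayPt} {a : G} :
    a ∈ W C O ↔ ∃ S : Finset GolayPt, S ⊆ O ∧ Even S.card ∧ C.ε S = a := Iff.rfl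

theorem ε_mem_W {O S : Finset GolayPt} (hS : S ⊆ O) (h2 : Even S.card) : C.ε S ∈ W C O :=
  ⟨S, hS, h2, rfl⟩

theorem W_le (O : Finset GolayPt) : W C O ≤ C.E hex0 := by
  rintro _ ⟨S, hS, h2, rfl⟩
  exact C.ε_mem S h2

/-- the pointwise stabiliser of `O`, in `M24` -/
def BO (O : Finset GolayPt) : Subgroup M24 := (fixOct O).subgroupOf M24

theorem mem_BO {O : Finset GolayPt} {g : M24} :
    g ∈ BO O ↔ ∀ x ∈ O, (g : Equiv.Perm GolayPt) x = x := by
  rw [BO, Subgroup.mem_subgroupOf, mem_fixOct]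
  exact ⟨fun h => h.2, fun h => ⟨g.2, h⟩⟩

variable (C) in
/-- the elementary abelian group of order `2^10` of an octad -/
def A (O : Finset GolayPt) : Subgroup G := W C O ⊔ (BO O).map C.φ

end Cfsg.Agent.H821.Ten
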