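import Cfsg.Agent.Lib.MinNormal
import Cfsg.Agent.H821.RankAct

/-!
# Overgroups of a 2-local subgroup (helper821)

`main` : let `L` be a 2-subgroup of a finite group `H` such that the normaliser `M` of `L` acts almost irreducibly
on `L` (invariant subgroups of `L`: `⊥`, `Z`, `L`), `O_2(M) = L ≥ C(L)`, and suppose that `H` has no non-trivial
abelian normal subgroup of odd prime power order.
Then `L` is normal in `H`, or a minimal normal subgroup `N` of `H` containing `L` is a direct product of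
non-abelian simple groups.
-/

set_option autoImplicit false
set_option linter.unusedSectionVars false

namespace Cfsg.Agent.H821.TwoLocalMax

open Subgroup
open scoped commutatorElement

variable {H : Type*} [Group H] [Finite H]

/-- normalisers grow in `p`-groups -/
theorem grow {p : ℕ} [Fact p.Prime] {P L : Subgroup H} (hP : IsPGroup p P)
    (h : P ⊓ normalizer (L : Set H) ≤ L) (hLP : L ≤ P) : P ≤ L := by
  by_contra hne
  have hnil : Group.IsNilpotent P := hP.isNilpotent
  have hlt : L.subgroupOf P < ⊤ := by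
    rw [lt_top_iff_ne_top]
    intro h1
    exact hne (subgroupOf_eq_top.1 h1)
  have h2 := (Group.normalizerCondition_of_isNilpotent (G := P)) _ hlt
  obtain ⟨x, hx, hxL⟩ := SetLike.exists_of_lt h2
  apply hxL
  rw [mem_subgroupOf]
  refine h (mem_inf.2 ⟨x.2, ?_⟩)
  rw [mem_normalizer_iff]
  intro y
  rw [mem_normalizer_iff] at hx
  constructor
  · intro hy
    have h3 := (hx ⟨y, hLP hy⟩).1 (by rw [mem_subgroupOf]; exact hy)
    rw [mem_subgroupOf] at h3
    exact h3
  · intro hy
    have hyP : y ∈ P := by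
      have h4 : (x : H) * y * (x : H)⁻¹ ∈ P := hLP hy
      have h5 := P.mul_mem (P.mul_mem (P.inv_mem x.2) h4) x.2
      rwa [show (x : H)⁻¹ * ((x : H) * y * (x : H)⁻¹) * (x : H) = y by group] at h5
    have h3 := (hx ⟨y, hyP⟩).2 (by rw [mem_subgroupOf]; exact hy)
    rw [mem_subgroupOf] at h3
    exact h3

/-- a perfect group has no non-trivial self-normalising abelian `p`-subgroup -/
theorem eq_bot_of_self_norm {p : ℕ} [Fact p.Prime] {N Z : Subgroup H} (hN : ⁅N, N⁆ = N) (hZN : Z ≤ N)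
    (hZp : IsPGroup p Z) (hZc : ∀ a ∈ Z, ∀ b ∈ Z, a * b = b * a)
    (h : N ⊓ normalizer (Z : Set H) ≤ Z) : Z = ⊥ := by
  have hperf : commutator N = ⊤ := by
    apply map_injective N.subtype_injective
    rw [map_subtype_commutator, hN, ← MonoidHom.range_eq_map, range_subtype]
  set Z' := Z.subgroupOf N with hZ'
  have hZ'p : IsPGroup p Z' := hZp.comap_of_injective N.subtype N.subtype_injective
  obtain ⟨P, hP⟩ := hZ'p.exists_le_sylow
  have hnorm : ∀ x : N, x ∈ normalizer (Z' : Set N) → x ∈ Z' := by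
    intro x hx
    rw [mem_subgroupOf]
    refine h (mem_inf.2 ⟨x.2, ?_⟩)
    rw [mem_normalizer_iff] at hx ⊢
    intro y
    constructor
    · intro hy
      have h3 := (hx ⟨y, hZN hy⟩).1 (by rw [mem_subgroupOf]; exact hy)
      rw [mem_subgroupOf] at h3
      exact h3
    · intro hy
      have hyP : y ∈ N := by
        have h4 : (x : H) * y * (x : H)⁻¹ ∈ N := hZN hy
        have h5 := N.mul_mem (N.mul_mem (N.inv_mem x.2) h4) x.2
        rwa [show (x : H)⁻¹ * ((x : H) * y * (x : H)⁻¹) * (x : H) = y by group] at h5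
      have h3 := (hx ⟨y, hyP⟩).2 (by rw [mem_subgroupOf]; exact hy)
      rw [mem_subgroupOf] at h3
      exact h3
  have hPZ : (P : Subgroup N) = Z' := by
    refine le_antisymm (grow P.2 (fun x hx => hnorm x (mem_inf.1 hx).2) hP) hP
  have hPc : ∀ a ∈ (P : Subgroup N), ∀ b ∈ (P : Subgroup N), a * b = b * a := by
    intro a ha b hb
    rw [hPZ, mem_subgroupOf] at ha hb
    exact Subtype.ext (hZc _ ha _ hb)
  have hPn : normalizer ((P : Subgroup N) : Set N) ≤ centralizer ((P : Subgroup N) : Set N) := by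
    intro x hx
    rw [mem_centralizer_iff]
    intro y hy
    refine hPc y hy x ?_
    rw [hPZ]
    exact hnorm x (hPZ ▸ hx)
  have hcompl := MonoidHom.ker_transferSylow_isComplement' P hPn
  have hker : (MonoidHom.transferSylow P hPn).ker = ⊤ := by
    rw [eq_top_iff, ← hperf, commutator_def, commutator_le]
    intro a _ b _
    rw [MonoidHom.mem_ker, map_commutatorElement, commutatorElement_eq_one_iff_mul_comm]
    exact Subtype.ext (hPc _ (Subtype.prop _) _ (Subtype.prop _))
  rw [hker] at hcompl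
  have h5 := isComplement'_top_left.1 hcompl
  rw [hPZ, hZ'] at h5
  rw [eq_bot_iff]
  intro x hx
  have h6 : (⟨x, hZN hx⟩ : N) ∈ Z.subgroupOf N := mem_subgroupOf.2 hx
  rw [h5, mem_bot] at h6
  exact mem_bot.2 (congrArg Subtype.val h6)

theorem relIndex_mul_card (K F : Subgroup H) : K.relIndex F * Nat.card (F ⊓ K : Subgroup H) = Nat.card F := by
  have h := (K.subgroupOf F).card_mul_index
  rw [← inf_subgroupOf_left, Nat.card_congr (subgroupOfEquivOfLe inf_le_left).toEquiv, inf_subgroupOf_left, mul_comm] at h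
  exact h

theorem le_normalizer_centralizer (R : Subgroup H) :
    normalizer (R : Set H) ≤ normalizer ((centralizer (R : Set H) : Subgroup H) : Set H) := by
  refine RankAct.le_normalizer_of_forall fun f hf w hw => ?_
  rw [mem_centralizer_iff] at hw ⊢
  intro y hy
  have h1 : f⁻¹ * y * f ∈ R := by
    have := (mem_normalizer_iff.1 ((normalizer (R : Set H)).inv_mem hf) y).1 hy
    rwa [inv_inv] at this
  have h2 := hw _ h1
  have h3 : f * (f⁻¹ * y * f * w) * f⁻¹ = f * (w * (f⁻¹ * y * f)) * f⁻¹ := by rw [h2]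
  have h4 : f * (f⁻¹ * y * f * w) * f⁻¹ = y * (f * w * f⁻¹) := by group
  have h5 : f * (w * (f⁻¹ * y * f)) * f⁻¹ = f * w * f⁻¹ * y := by group
  rw [← h4, h3, h5]

theorem eq_bot_of_card {L R : Subgroup H} (hL : IsPGroup 2 L) (hRL : R ≤ L) {r m : ℕ} (hr : r.Prime)
    (hr2 : r ≠ 2) (hc : Nat.card R = r ^ m) : R = ⊥ := by
  have : Fact (Nat.Prime 2) := ⟨Nat.prime_two⟩
  obtain ⟨k, hk⟩ := IsPGroup.iff_card.1 (hL.to_le hRL)
  have h1 : Nat.Coprime (r ^ m) (2 ^ k) := Nat.Coprime.pow _ _ ((Nat.coprime_primes hr Nat.prime_two).2 hr2)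
  rw [← hc, ← hk, Nat.coprime_self] at h1
  exact Subgroup.card_eq_one.1 h1

theorem card_le_eight {F R : Subgroup H} (hF2 : ∀ a ∈ F, a * a = 1) (hFR : F ≤ normalizer (R : Set H))
    (hRc : ∀ a ∈ R, ∀ b ∈ R, a * b = b * a) {r m : ℕ} (hr : r.Prime) (hr2 : r ≠ 2) (hc : Nat.card R = r ^ m)
    (hr4 : ¬ r ^ 4 ∣ Nat.card H) : Nat.card F ≤ 8 * Nat.card (F ⊓ centralizer (R : Set H) : Subgroup H) := by
  have hm3 : m ≤ 3 := by
    by_contra hm4
    refine hr4 ?_
    refine (Nat.pow_dvd_pow r (show 4 ≤ m by omega)).trans ?_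
    rw [← hc]
    exact card_subgroup_dvd_card R
  have h1 := RankAct.relIndex_le hr hr2 hF2 m R hRc hFR hc
  have h2 : (centralizer (R : Set H)).relIndex F ≤ 8 :=
    h1.trans ((Nat.pow_le_pow_right (by norm_num) hm3).trans (by norm_num))
  rw [← relIndex_mul_card (centralizer (R : Set H)) F]
  exact Nat.mul_le_mul_right _ h2

/-- no odd abelian subgroup is normalised by the normaliser of an irreducible elementary abelian group -/
theorem odd_of_irr {L R : Subgroup H} (hL2 : ∀ a ∈ L, a * a = 1) (h8 : 8 < Nat.card L)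
    (hirr : ∀ W ≤ L, normalizer (L : Set H) ≤ normalizer (W : Set H) → W = ⊥ ∨ W = L)
    (hC : centralizer (L : Set H) ≤ L) (hLR : normalizer (L : Set H) ≤ normalizer (R : Set H))
    (hRc : ∀ a ∈ R, ∀ b ∈ R, a * b = b * a) {r m : ℕ} (hr : r.Prime) (hr2 : r ≠ 2) (hc : Nat.card R = r ^ m)
    (hr4 : ¬ r ^ 4 ∣ Nat.card H) : R = ⊥ := by
  have h1 := card_le_eight hL2 (le_normalizer.trans hLR) hRc hr hr2 hc hr4
  rcases hirr (L ⊓ centralizer (R : Set H)) inf_le_left
    (Lib.MinNormal.le_normalizer_inf le_rfl (hLR.trans (le_normalizer_centralizer R))) with h | h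
  · rw [h, card_bot] at h1
    omega
  · have h2 : R ≤ centralizer (L : Set H) := by
      rw [le_centralizer_iff]
      exact inf_eq_left.1 h
    have hLp : IsPGroup 2 L := fun a => ⟨1, Subtype.ext (by
      rw [pow_one, pow_two]
      exact hL2 a a.2)⟩
    exact eq_bot_of_card hLp (h2.trans hC) hr hr2 hc

/-- no odd abelian subgroup is normalised by a large extraspecial group -/
theorem odd_of_large {Q A R : Subgroup H} {z : H} (hQ : IsPGroup 2 Q)
    (hz : ∀ W ≤ Q, W ≠ ⊥ → Q ≤ normalizer (W : Set H) → z ∈ W)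
    (hzQ : centralizer ({z} : Set H) ≤ normalizer (Q : Set H)) (hC : centralizer (Q : Set H) ≤ Q)
    (hAQ : A ≤ Q) (hA2 : ∀ a ∈ A, a * a = 1) (h8 : 8 < Nat.card A) (hQR : Q ≤ normalizer (R : Set H))
    (hRc : ∀ a ∈ R, ∀ b ∈ R, a * b = b * a) {r m : ℕ} (hr : r.Prime) (hr2 : r ≠ 2) (hc : Nat.card R = r ^ m)
    (hr4 : ¬ r ^ 4 ∣ Nat.card H) : R = ⊥ := by
  have h1 := card_le_eight hA2 (hAQ.trans hQR) hRc hr hr2 hc hr4
  have h2 : Q ⊓ centralizer (R : Set H) ≠ ⊥ := by
    intro h
    have h3 : A ⊓ centralizer (R : Set H) = ⊥ := by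
      rw [eq_bot_iff, ← h]
      exact inf_le_inf_right _ hAQ
    rw [h3, card_bot] at h1
    omega
  have h4 := hz _ inf_le_left h2
    (Lib.MinNormal.le_normalizer_inf le_normalizer (hQR.trans (le_normalizer_centralizer R)))
  have h5 : R ≤ normalizer (Q : Set H) := by
    intro x hx
    apply hzQ
    rw [mem_centralizer_singleton_iff]
    exact (mem_centralizer_iff.1 (mem_inf.1 h4).2 x hx)
  have hd : Disjoint R Q := by
    rw [disjoint_iff]
    have h6 : Nat.card (R ⊓ Q : Subgroup H) ∣ r ^ m := by rw [← hc]; exact card_dvd_of_le inf_le_left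
    obtain ⟨k, -, hk⟩ := (Nat.dvd_prime_pow hr).1 h6
    exact eq_bot_of_card hQ inf_le_right hr hr2 hk
  refine eq_bot_of_card hQ (le_trans ?_ hC) hr hr2 hc
  intro x hx
  rw [mem_centralizer_iff]
  intro y hy
  exact (Lib.MinNormal.commute_of_disjoint h5 hQR hd hx hy).symm.eq

theorem normalizer_le_normalizer_centralizer {L N : Subgroup H} [hN : N.Normal] :
    normalizer (L : Set H) ≤ normalizer ((L ⊓ centralizer (N : Set H) : Subgroup H) : Set H) := by
  refine Lib.MinNormal.le_normalizer_inf le_rfl ?_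
  have : (centralizer (N : Set H)).Normal := inferInstance
  rw [normalizer_eq_top (centralizer (N : Set H))]
  exact le_top

theorem normalizer_le_normalizer_inf {L N : Subgroup H} [hN : N.Normal] :
    normalizer (L : Set H) ≤ normalizer ((N ⊓ L : Subgroup H) : Set H) := by
  refine Lib.MinNormal.le_normalizer_inf ?_ le_rfl
  rw [normalizer_eq_top N]
  exact le_top

theorem normalizer_le_normalizer_inf_normalizer {L N : Subgroup H} [hN : N.Normal] :
    normalizer (L : Set H) ≤ normalizer ((N ⊓ normalizer (L : Set H) : Subgroup H) : Set H) := by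
  refine Lib.MinNormal.le_normalizer_inf ?_ le_normalizer
  rw [normalizer_eq_top N]
  exact le_top

/-- fixed points of a 2-group acting on a normal subgroup -/
theorem odd_of_centralizer {L N : Subgroup H} [hN : N.Normal] (hL : IsPGroup 2 L)
    (h : N ⊓ centralizer (L : Set H) = ⊥) : Odd (Nat.card N) := by
  have : Fact (Nat.Prime 2) := ⟨Nat.prime_two⟩
  let _ : MulAction L N := MulAction.compHom N ((MulAut.conjNormal (H := N)).comp L.subtype)
  have h1 := hL.card_modEq_card_fixedPoints N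
  have h2 : Nat.card (MulAction.fixedPoints L N) = 1 := by
    rw [Nat.card_eq_one_iff_unique]
    refine ⟨⟨?_⟩, ⟨⟨1, fun l => map_one (MulAut.conjNormal (H := N) (l : H))⟩⟩⟩
    have key : ∀ a : MulAction.fixedPoints L N, ((a : N) : H) = 1 := by
      rintro ⟨a, ha⟩
      have h3 : (a : H) ∈ N ⊓ centralizer (L : Set H) := by
        refine mem_inf.2 ⟨a.2, ?_⟩
        rw [mem_centralizer_iff]
        intro l hl
        have h4 := congrArg Subtype.val (ha ⟨l, hl⟩)
        have h5 : l * (a : H) * l⁻¹ = a := h4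
        rwa [mul_inv_eq_iff_eq_mul] at h5
      rw [h, mem_bot] at h3
      exact h3
    intro a b
    exact Subtype.ext (Subtype.ext ((key a).trans (key b).symm))
  rw [h2] at h1
  rw [Nat.odd_iff]
  exact h1

theorem main {L Z : Subgroup H} (hL : IsPGroup 2 L) (hL1 : L ≠ ⊥) (hZL : Z ≤ L)
    (hZc : ∀ a ∈ Z, ∀ b ∈ Z, a * b = b * a)
    (hirr : ∀ W ≤ L, normalizer (L : Set H) ≤ normalizer (W : Set H) → W = ⊥ ∨ W = Z ∨ W = L)
    (hZN : Z ≠ ⊥ → normalizer (Z : Set H) ≤ normalizer (L : Set H))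
    (hO : ∀ W ≤ normalizer (L : Set H), normalizer (L : Set H) ≤ normalizer (W : Set H) → IsPGroup 2 W → W ≤ L)
    (hC : centralizer (L : Set H) ≤ L)
    (he : Z = L ∨ ∀ W ≤ normalizer (L : Set H), normalizer (L : Set H) ≤ normalizer (W : Set H) → ⁅W, L⁆ ≤ Z →
      W ≤ L)
    (hR : ∀ R : Subgroup H, R.Normal → (∀ a ∈ R, ∀ b ∈ R, a * b = b * a) → ∀ r m : ℕ, r.Prime → r ≠ 2 →
      Nat.card R = r ^ m → R = ⊥)
    (hodd : ∀ T : Subgroup H, IsSimpleGroup T → Odd (Nat.card T) → ∀ a ∈ T, ∀ b ∈ T, a * b = b * a) :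
    L.Normal ∨ ∃ (N T : Subgroup H) (m : ℕ), N.Normal ∧ L ≤ N ∧ T ≤ N ∧ IsSimpleGroup T ∧
      (¬ ∀ a ∈ T, ∀ b ∈ T, a * b = b * a) ∧ 0 < m ∧ Nonempty (N ≃* (Fin m → T)) ∧ ⁅N, N⁆ = N := by
  have : Fact (Nat.Prime 2) := ⟨Nat.prime_two⟩
  have hnt : Nontrivial H := by
    obtain ⟨x, hx, hx1⟩ := (ne_bot_iff_exists_ne_one (H := L)).1 hL1 |>.elim fun a ha => (⟨a, a.2, fun h => ha (Subtype.ext h)⟩ : ∃ x : H, x ∈ L ∧ x ≠ 1)
    exact ⟨x, 1, hx1⟩
  obtain ⟨N, -, hN1, hNn, hmin⟩ := Lib.MinNormal.exists_minimal_normal_le (⊤ : Subgroup H) top_ne_bot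
  have hNn' : N.Normal := by
    rw [← normalizer_eq_top_iff, eq_top_iff]
    exact hNn
  have hmin' : ∀ M : Subgroup H, M.Normal → M ≤ N → M = ⊥ ∨ M = N := by
    intro M hM hMN
    refine hmin M hMN ?_
    rw [normalizer_eq_top]
  obtain ⟨T, m, hTN, hT, hm, ⟨e⟩⟩ := Lib.MinNormal.exists_mulEquiv_pi N hN1 hmin'
  have hcardN : Nat.card N = Nat.card T ^ m := by
    rw [Nat.card_congr e.toEquiv, Nat.card_pi, Finset.prod_const, Finset.card_univ, Fintype.card_fin]
  by_cases hab : ∀ a ∈ T, ∀ b ∈ T, a * b = b * a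
  · -- abelian case
    have hNab : ∀ a ∈ N, ∀ b ∈ N, a * b = b * a := by
      intro a ha b hb
      have h1 : e ⟨a, ha⟩ * e ⟨b, hb⟩ = e ⟨b, hb⟩ * e ⟨a, ha⟩ := by
        funext i
        exact Subtype.ext (hab _ (Subtype.prop _) _ (Subtype.prop _))
      rw [← map_mul, ← map_mul] at h1
      exact congrArg Subtype.val (e.injective h1)
    let _ : CommGroup T := { (inferInstance : Group T) with mul_comm := fun a b => Subtype.ext (hab a a.2 b b.2) }
    have hrp : (Nat.card T).Prime := IsSimpleGroup.prime_card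
    set r := Nat.card T with hrdef
    by_cases hr2 : r = 2
    · -- a normal 2-subgroup
      left
      have hN2 : IsPGroup 2 N := IsPGroup.of_card (hcardN.trans (by rw [hr2]))
      have hW : N ⊓ normalizer (L : Set H) ≤ L :=
        hO _ inf_le_right normalizer_le_normalizer_inf_normalizer (hN2.to_le inf_le_left)
      have hNL : N ≤ L := by
        have hP : IsPGroup 2 (N ⊔ L : Subgroup H) := hN2.to_sup_of_normal_left hL
        refine le_sup_left.trans (grow hP ?_ le_sup_right)
        intro x hx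
        obtain ⟨hx1, hx2⟩ := mem_inf.1 hx
        rw [mem_sup_of_normal_left] at hx1
        obtain ⟨n, hn, l, hl, rfl⟩ := hx1
        have h3 : n ∈ normalizer (L : Set H) := by
          have := (normalizer (L : Set H)).mul_mem hx2 ((normalizer (L : Set H)).inv_mem (le_normalizer hl))
          rwa [mul_inv_cancel_right] at this
        exact L.mul_mem (hW (mem_inf.2 ⟨hn, h3⟩)) hl
      have hnN : normalizer (N : Set H) = ⊤ := normalizer_eq_top N
      rcases hirr N hNL (by rw [hnN]; exact le_top) with h | h | h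
      · exact absurd h hN1
      · rw [← normalizer_eq_top_iff, eq_top_iff, ← hnN, h]
        exact hZN (h ▸ hN1)
      · exact h ▸ hNn'
    · -- an odd prime
      exact absurd (hR N hNn' hNab r m hrp hr2 hcardN) hN1
  · -- non-abelian case
    right
    have hperf : ⁅N, N⁆ = N := by
      rcases hmin' ⁅N, N⁆ inferInstance (commutator_le_self N) with h | h
      · exfalso
        apply hab
        intro a ha b hb
        have h1 : ⁅a, b⁆ ∈ ⁅N, N⁆ := commutator_mem_commutator (hTN ha) (hTN hb)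
        rw [h, mem_bot, commutatorElement_eq_one_iff_mul_comm] at h1
        exact h1
      · exact h
    refine ⟨N, T, m, hNn', ?_, hTN, hT, hab, hm, ⟨e⟩, hperf⟩
    set M := normalizer (L : Set H) with hM
    have hcomm : ⁅N ⊓ M, L⁆ ≤ N ⊓ L := by
      rw [commutator_le]
      intro a ha b hb
      obtain ⟨ha1, ha2⟩ := mem_inf.1 ha
      refine mem_inf.2 ⟨?_, ?_⟩
      · rw [commutatorElement_def, show a * b * a⁻¹ * b⁻¹ = a * (b * a⁻¹ * b⁻¹) by group]
        exact N.mul_mem ha1 (hNn'.conj_mem _ (N.inv_mem ha1) b)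
      · rw [commutatorElement_def]
        exact L.mul_mem ((mem_normalizer_iff.1 ha2 b).1 hb) (L.inv_mem hb)
    have hbot : N ⊓ L ≠ ⊥ := by
      intro h0
      have h1 : N ⊓ centralizer (L : Set H) = ⊥ := by
        rw [eq_bot_iff, ← h0]
        exact inf_le_inf_left _ hC
      have h2 := odd_of_centralizer hL h1
      apply hab
      refine hodd T hT ?_
      rw [hcardN] at h2
      exact (Nat.odd_pow_iff (by omega)).1 h2
    rcases hirr (N ⊓ L) inf_le_right normalizer_le_normalizer_inf with h | h | h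
    · exact absurd h hbot
    · rcases he with hZ | he
      · rw [hZ] at h
        exact inf_eq_right.1 h
      · exfalso
        have h1 : N ⊓ M ≤ L := he _ inf_le_right normalizer_le_normalizer_inf_normalizer (h ▸ hcomm)
        have hZ0 : Z ≠ ⊥ := h ▸ hbot
        have h2 : N ⊓ normalizer (Z : Set H) ≤ Z := by
          intro x hx
          obtain ⟨hx1, hx2⟩ := mem_inf.1 hx
          rw [← h]
          exact mem_inf.2 ⟨hx1, h1 (mem_inf.2 ⟨hx1, hZN hZ0 hx2⟩)⟩
        have hZN' : Z ≤ N := by rw [← h]; exact inf_le_left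
        exact hZ0 (eq_bot_of_self_norm (p := 2) hperf hZN' (hL.to_le hZL) hZc h2)
    · exact inf_eq_right.1 h

end Cfsg.Agent.H821.TwoLocalMax
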